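import Groth.Agent.Ega43.LimBC
import Groth.Agent.S0591
import Groth.Agent.S2074
import Groth.Agent.S9192
import Mathlib.AlgebraicGeometry.Noetherian

/-!
# Eventual properties of the stages of a base changed limit

For `p₀ : X₀ ⟶ D i₀` and a pullback square `X = X₀ ×_{D i₀} lim D`, the predicate `Ev P` says that for all large
`i` the stage `Xᵢ = X₀ ×_{D i₀} Dᵢ` (with `aᵢ : Xᵢ ⟶ X₀`, `u : X ⟶ Xᵢ`) satisfies `P Xᵢ aᵢ u`.
-/

set_option autoImplicit false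
set_option backward.isDefEq.respectTransparency false
set_option backward.defeqAttrib.useBackward true
universe u

open CategoryTheory CategoryTheory.Limits AlgebraicGeometry

namespace K119.StageEv

open Groth.Agent.Ega43.LimBC

variable {I : Type u} [SmallCategory I] (D : I ⥤ Scheme.{u}) (c : Cone D)

section Basic

variable {i₀ : I} {X₀ X : Scheme.{u}} (p₀ : X₀ ⟶ D.obj i₀) (a : X ⟶ X₀) (b : X ⟶ c.pt)

/-- For all large stages. -/
def Ev (P : ∀ Xi : Scheme.{u}, (Xi ⟶ X₀) → (X ⟶ Xi) → Prop) : Prop :=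
  ∃ (i₁ : I) (φ₁ : i₁ ⟶ i₀), ∀ (i : I) (φ : i ⟶ i₁) (Xi : Scheme.{u}) (ai : Xi ⟶ X₀) (pi : Xi ⟶ D.obj i)
    (u : X ⟶ Xi), IsPullback ai pi p₀ (D.map (φ ≫ φ₁)) → u ≫ ai = a → u ≫ pi = b ≫ c.π.app i → P Xi ai u

variable {D c p₀ a b} {P Q : ∀ Xi : Scheme.{u}, (Xi ⟶ X₀) → (X ⟶ Xi) → Prop}

theorem Ev.mono (h : Ev D c p₀ a b P)
    (hPQ : ∀ (i : I) (φ : i ⟶ i₀) (Xi : Scheme.{u}) (ai : Xi ⟶ X₀) (pi : Xi ⟶ D.obj i) (u : X ⟶ Xi),
      IsPullback ai pi p₀ (D.map φ) → u ≫ ai = a → u ≫ pi = b ≫ c.π.app i → P Xi ai u → Q Xi ai u) :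
    Ev D c p₀ a b Q := by
  obtain ⟨i₁, φ₁, h⟩ := h
  exact ⟨i₁, φ₁, fun i φ Xi ai pi u h1 h2 h3 => hPQ i _ Xi ai pi u h1 h2 h3 (h i φ Xi ai pi u h1 h2 h3)⟩

theorem Ev.of_forall
    (hPQ : ∀ (i : I) (φ : i ⟶ i₀) (Xi : Scheme.{u}) (ai : Xi ⟶ X₀) (pi : Xi ⟶ D.obj i) (u : X ⟶ Xi),
      IsPullback ai pi p₀ (D.map φ) → u ≫ ai = a → u ≫ pi = b ≫ c.π.app i → P Xi ai u) :
    Ev D c p₀ a b P :=
  ⟨i₀, 𝟙 _, fun i _ Xi ai pi u h1 h2 h3 => hPQ i _ Xi ai pi u h1 h2 h3⟩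

theorem Ev.forall_finite [IsCofiltered I] {K : Type} [Finite K]
    {P : K → ∀ Xi : Scheme.{u}, (Xi ⟶ X₀) → (X ⟶ Xi) → Prop} (h : ∀ k, Ev D c p₀ a b (P k)) :
    Ev D c p₀ a b (fun Xi ai u => ∀ k, P k Xi ai u) := by
  choose i₁ φ₁ h using h
  obtain ⟨j, f, g, hg⟩ := IsCofiltered.wideCospan φ₁
  refine ⟨j, f, fun i φ Xi ai pi u h1 h2 h3 k => ?_⟩
  refine h k i (φ ≫ g k) Xi ai pi u ?_ h2 h3
  rwa [Category.assoc, hg k]

theorem Ev.and [IsCofiltered I] (h : Ev D c p₀ a b P) (h' : Ev D c p₀ a b Q) :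
    Ev D c p₀ a b (fun Xi ai u => P Xi ai u ∧ Q Xi ai u) := by
  obtain ⟨i₁, φ₁, h⟩ := h
  obtain ⟨i₂, φ₂, h'⟩ := h'
  obtain ⟨j, f, g, hg⟩ := IsCofiltered.cospan φ₁ φ₂
  refine ⟨j, f ≫ φ₁, fun i φ Xi ai pi u h1 h2 h3 => ⟨?_, ?_⟩⟩
  · refine h i (φ ≫ f) Xi ai pi u ?_ h2 h3
    rwa [Category.assoc]
  · refine h' i (φ ≫ g) Xi ai pi u ?_ h2 h3
    rwa [Category.assoc, ← hg]

/-- Replace the stage `i₀` by a later one. -/
theorem Ev.shift {i₁ : I} (φ₁ : i₁ ⟶ i₀) {X₁ : Scheme.{u}} (r : X₁ ⟶ X₀) (p₁ : X₁ ⟶ D.obj i₁)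
    (h : IsPullback r p₁ p₀ (D.map φ₁)) (a₁ : X ⟶ X₁) (ha : a₁ ≫ r = a) (hb : a₁ ≫ p₁ = b ≫ c.π.app i₁)
    (hE : Ev D c p₁ a₁ b (fun Xi ai u => P Xi (ai ≫ r) u)) : Ev D c p₀ a b P := by
  obtain ⟨i₂, φ₂, hE⟩ := hE
  refine ⟨i₂, φ₂ ≫ φ₁, fun i φ Xi ai pi u h1 h2 h3 => ?_⟩
  have e1 : ai ≫ p₀ = (pi ≫ D.map (φ ≫ φ₂)) ≫ D.map φ₁ := by
    rw [h1.w, Category.assoc, ← D.map_comp, Category.assoc]
  let ai' : Xi ⟶ X₁ := h.lift ai (pi ≫ D.map (φ ≫ φ₂)) e1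
  have h4 : ai' ≫ r = ai := h.lift_fst _ _ _
  have h5 : ai' ≫ p₁ = pi ≫ D.map (φ ≫ φ₂) := h.lift_snd _ _ _
  have h6 : IsPullback ai' pi p₁ (D.map (φ ≫ φ₂)) := by
    refine IsPullback.of_right (h₁₂ := r) (h₂₂ := D.map φ₁) ?_ h5 h
    rw [h4, ← D.map_comp]
    simpa only [Category.assoc] using h1
  have h7 : u ≫ ai' = a₁ := by
    apply h.hom_ext
    · rw [Category.assoc, h4, h2, ha]
    · rw [Category.assoc, h5, ← Category.assoc, h3, hb, Category.assoc, c.w]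
  have h8 : P Xi (ai' ≫ r) u := hE i φ Xi ai' pi u h6 h7 h3
  rwa [h4] at h8

/-- A property which is stable under passage to later stages and holds at one stage. -/
theorem Ev.of_stage [∀ (i j : I) (f : i ⟶ j), IsAffineHom (D.map f)]
    (hP : ∀ (Xi Xj : Scheme.{u}) (r : Xj ⟶ Xi) (ai : Xi ⟶ X₀) (u : X ⟶ Xj), IsAffineHom r →
      P Xi ai (u ≫ r) → P Xj (r ≫ ai) u)
    {i : I} (φ : i ⟶ i₀) (Xi : Scheme.{u}) (ai : Xi ⟶ X₀) (pi : Xi ⟶ D.obj i) (u : X ⟶ Xi)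
    (h1 : IsPullback ai pi p₀ (D.map φ)) (h2 : u ≫ ai = a) (h3 : u ≫ pi = b ≫ c.π.app i) (h : P Xi ai u) :
    Ev D c p₀ a b P := by
  refine ⟨i, φ, fun j ψ Xj aj pj uj h1' h2' h3' => ?_⟩
  have e1 : aj ≫ p₀ = (pj ≫ D.map ψ) ≫ D.map φ := by
    rw [h1'.w, Category.assoc, ← D.map_comp]
  let r : Xj ⟶ Xi := h1.lift aj (pj ≫ D.map ψ) e1
  have h4 : r ≫ ai = aj := h1.lift_fst _ _ _
  have h5 : r ≫ pi = pj ≫ D.map ψ := h1.lift_snd _ _ _
  have h6 : IsPullback r pj pi (D.map ψ) := by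
    refine IsPullback.of_right (h₁₂ := ai) (h₂₂ := D.map φ) ?_ h5 h1
    rw [h4, ← D.map_comp]
    exact h1'
  have h7 : IsAffineHom r := MorphismProperty.of_isPullback (P := @IsAffineHom) h6.flip inferInstance
  have h8 : uj ≫ r = u := by
    apply h1.hom_ext
    · rw [Category.assoc, h4, h2, h2']
    · rw [Category.assoc, h5, ← Category.assoc, h3', h3, Category.assoc, c.w]
  have := hP Xi Xj r ai uj h7 (by rw [h8]; exact h)
  rwa [h4] at this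

/-- The same with the base changed diagram. -/
theorem Ev.of_bc [∀ (i j : I) (f : i ⟶ j), IsAffineHom (D.map f)] (hX : IsPullback a b p₀ (c.π.app i₀))
    (hP : ∀ (Xi Xj : Scheme.{u}) (r : Xj ⟶ Xi) (ai : Xi ⟶ X₀) (u : X ⟶ Xj), IsAffineHom r →
      P Xi ai (u ≫ r) → P Xj (r ≫ ai) u) (j : Over i₀)
    (h : P (pullback p₀ (D.map j.hom)) (pullback.fst p₀ (D.map j.hom))
      (hX.isoPullback.hom ≫ (bcCone D c i₀ p₀).π.app j)) : Ev D c p₀ a b P := by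
  refine Ev.of_stage hP j.hom _ _ (pullback.snd p₀ (D.map j.hom)) _ (.of_hasPullback _ _) ?_ ?_ h
  · rw [Category.assoc]
    have := bcCone_π_fst D c i₀ p₀ j
    erw [this]
    exact hX.isoPullback_hom_fst
  · rw [Category.assoc]
    have h1 : (bcCone D c i₀ p₀).π.app j ≫ pullback.snd p₀ (D.map j.hom) =
        pullback.snd p₀ (c.π.app i₀) ≫ c.π.app j.left := pullback.lift_snd _ _ _
    erw [h1]
    rw [← Category.assoc, hX.isoPullback_hom_snd]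

end Basic

section Lim

variable [IsCofiltered I] [∀ (i j : I) (f : i ⟶ j), IsAffineHom (D.map f)]

variable {i₀ : I} {X₀ X : Scheme.{u}} {p₀ : X₀ ⟶ D.obj i₀} {a : X ⟶ X₀} {b : X ⟶ c.pt}
  (hX : IsPullback a b p₀ (c.π.app i₀))

include hX in
theorem isPullback_stage {i : I} {φ : i ⟶ i₀} {Xi : Scheme.{u}} {ai : Xi ⟶ X₀} {pi : Xi ⟶ D.obj i} {u : X ⟶ Xi}
    (h1 : IsPullback ai pi p₀ (D.map φ)) (h2 : u ≫ ai = a) (h3 : u ≫ pi = b ≫ c.π.app i) :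
    IsPullback u b pi (c.π.app i) := by
  refine IsPullback.of_right (h₁₂ := ai) (h₂₂ := D.map φ) ?_ h3 h1
  rw [h2, c.w]
  exact hX

theorem compact_bc [CompactSpace X₀] (j : Over i₀) : CompactSpace ((bcDiagram D i₀ p₀).obj j) := by
  have h : IsAffineHom (pullback.fst p₀ (D.map j.hom)) :=
    MorphismProperty.of_isPullback (P := @IsAffineHom) (IsPullback.of_hasPullback p₀ (D.map j.hom)).flip
      inferInstance
  exact QuasiCompact.compactSpace_of_compactSpace (pullback.fst p₀ (D.map j.hom))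

theorem qs_bc [QuasiSeparatedSpace X₀] (j : Over i₀) : QuasiSeparatedSpace ((bcDiagram D i₀ p₀).obj j) := by
  have h : IsAffineHom (pullback.fst p₀ (D.map j.hom)) :=
    MorphismProperty.of_isPullback (P := @IsAffineHom) (IsPullback.of_hasPullback p₀ (D.map j.hom)).flip
      inferInstance
  exact quasiSeparatedSpace_of_quasiSeparated (pullback.fst p₀ (D.map j.hom))

variable (hc : IsLimit c)

include hX hc

/-- Large stages of an affine limit are affine. -/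
theorem ev_isAffine [CompactSpace X₀] [QuasiSeparatedSpace X₀] [IsAffine X] :
    Ev D c p₀ a b (fun Xi _ _ => IsAffine Xi) := by
  have := compact_bc D (p₀ := p₀)
  have := qs_bc D (p₀ := p₀)
  have h1 : IsAffine (bcCone D c i₀ p₀).pt := IsAffine.of_isIso hX.isoPullback.inv
  obtain ⟨j, hj⟩ := Scheme.exists_isAffine_of_isLimit (bcDiagram D i₀ p₀) (bcCone D c i₀ p₀)
    (isLimitBcCone D c i₀ p₀ hc)
  exact Ev.of_bc hX (fun Xi Xj r ai u hr h => by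
    have : IsAffine Xi := h
    exact isAffine_of_isAffineHom r) j hj

/-- A global section comes from large stages. -/
theorem ev_section [CompactSpace X₀] [QuasiSeparatedSpace X₀] (s : Γ(X, ⊤)) :
    Ev D c p₀ a b (fun Xi _ u => ∃ t : Γ(Xi, ⊤), u.appTop t = s) := by
  have := compact_bc D (p₀ := p₀)
  have := qs_bc D (p₀ := p₀)
  obtain ⟨j, t, ht⟩ := exists_appTop_π_eq_of_isLimit (bcDiagram D i₀ p₀) (bcCone D c i₀ p₀)
    (isLimitBcCone D c i₀ p₀ hc) (hX.isoPullback.inv.appTop s)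
  refine Ev.of_bc hX (fun Xi Xj r ai u hr h => ?_) j ⟨t, ?_⟩
  · obtain ⟨t, ht⟩ := h
    exact ⟨r.appTop t, by rw [← ht, Scheme.Hom.comp_appTop]; rfl⟩
  · have h1 := congrArg hX.isoPullback.hom.appTop.hom ht
    have h2 : hX.isoPullback.hom.appTop.hom (hX.isoPullback.inv.appTop.hom s) = s := by
      have h3 : hX.isoPullback.inv.appTop ≫ hX.isoPullback.hom.appTop = 𝟙 _ := by
        rw [← Scheme.Hom.comp_appTop, Iso.hom_inv_id]
        rfl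
      exact congr($(h3) s)
    have h4 : hX.isoPullback.hom.appTop.hom (((bcCone D c i₀ p₀).π.app j).appTop.hom t) = s := by
      rw [← h2]; exact h1.symm
    rw [← h4, Scheme.Hom.comp_appTop]
    rfl

/-- Inclusions between opens. -/
theorem ev_le (U V : X₀.Opens) (hU : IsCompact (U : Set X₀)) (h : a ⁻¹ᵁ U ≤ a ⁻¹ᵁ V) :
    Ev D c p₀ a b (fun Xi ai _ => ai ⁻¹ᵁ U ≤ ai ⁻¹ᵁ V) := by
  let i1 : Over i₀ := Over.mk (𝟙 i₀)
  have hiso : IsIso (pullback.fst p₀ (D.map i1.hom)) := by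
    have : IsIso (D.map i1.hom) := by
      change IsIso (D.map (𝟙 i₀))
      infer_instance
    infer_instance
  have hfst : ∀ j : Over i₀, ∀ φ : j ⟶ i1, (bcDiagram D i₀ p₀).map φ ≫ pullback.fst p₀ (D.map i1.hom) =
      pullback.fst p₀ (D.map j.hom) := fun j φ => bcDiagram_map_fst D i₀ p₀ φ
  have hπ : (bcCone D c i₀ p₀).π.app i1 ≫ pullback.fst p₀ (D.map i1.hom) =
      hX.isoPullback.inv ≫ a := by
    rw [hX.isoPullback_inv_fst]
    exact bcCone_π_fst D c i₀ p₀ i1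
  obtain ⟨j, φ, hj⟩ := exists_map_preimage_le_map_preimage (bcDiagram D i₀ p₀) (bcCone D c i₀ p₀)
    (isLimitBcCone D c i₀ p₀ hc) (i := i1) (U := pullback.fst p₀ (D.map i1.hom) ⁻¹ᵁ U)
    (V := pullback.fst p₀ (D.map i1.hom) ⁻¹ᵁ V)
    (QuasiCompact.isCompact_preimage (f := pullback.fst p₀ (D.map i1.hom)) _ U.2 hU) (by
      rw [← Scheme.Hom.comp_preimage, ← Scheme.Hom.comp_preimage, hπ, Scheme.Hom.comp_preimage,
        Scheme.Hom.comp_preimage]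
      exact Scheme.Hom.preimage_mono _ h)
  refine Ev.of_bc hX (fun Xi Xj r ai u hr h => ?_) j ?_
  · rw [Scheme.Hom.comp_preimage, Scheme.Hom.comp_preimage]
    exact Scheme.Hom.preimage_mono _ h
  · rw [← hfst j φ, Scheme.Hom.comp_preimage, Scheme.Hom.comp_preimage]
    exact hj

omit hc in
omit hX in
theorem child_stable (Pr : MorphismProperty Scheme.{u}) [Pr.IsStableUnderBaseChange] {Y : Scheme.{u}} (f : Y ⟶ X)
    (Xi Xj : Scheme.{u}) (r : Xj ⟶ Xi) (u : X ⟶ Xj)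
    (h : ∃ (Yi : Scheme.{u}) (fi : Yi ⟶ Xi) (v : Y ⟶ Yi), Pr fi ∧
      LocallyOfFinitePresentation fi ∧ QuasiCompact fi ∧ QuasiSeparated fi ∧ IsPullback v f fi (u ≫ r)) :
    ∃ (Yj : Scheme.{u}) (fj : Yj ⟶ Xj) (v : Y ⟶ Yj), Pr fj ∧
      LocallyOfFinitePresentation fj ∧ QuasiCompact fj ∧ QuasiSeparated fj ∧ IsPullback v f fj u := by
  obtain ⟨Yi, fi, v, h1, h2, h3, h4, h5⟩ := h
  have hp : IsPullback (pullback.fst fi r) (pullback.snd fi r) fi r := .of_hasPullback _ _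
  let v' : Y ⟶ pullback fi r := pullback.lift v (f ≫ u) (by rw [h5.w, Category.assoc])
  refine ⟨pullback fi r, pullback.snd fi r, v', MorphismProperty.of_isPullback (P := Pr) hp h1,
    MorphismProperty.of_isPullback (P := @LocallyOfFinitePresentation) hp h2,
    MorphismProperty.of_isPullback (P := @QuasiCompact) hp h3,
    MorphismProperty.of_isPullback (P := @QuasiSeparated) hp h4, ?_⟩
  refine IsPullback.of_right (h₁₂ := pullback.fst fi r) (h₂₂ := r) ?_ (pullback.lift_snd _ _ _) hp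
  rw [pullback.lift_fst]
  exact h5

/-- Descent of a finitely presented morphism together with a property which descends. -/
theorem ev_child (Pr : MorphismProperty Scheme.{u}) [Pr.IsStableUnderBaseChange]
    [CompactSpace X₀] [QuasiSeparatedSpace X₀]
    (hdesc : ∀ (i₁ : I) (X₁ Y₁ : Scheme.{u}) (f₁ : Y₁ ⟶ X₁) (g₁ : X₁ ⟶ D.obj i₁) (_ : CompactSpace X₁)
      (_ : CompactSpace Y₁) (_ : QuasiSeparatedSpace X₁) (_ : QuasiSeparatedSpace Y₁)
      (_ : LocallyOfFinitePresentation f₁) (Y X : Scheme.{u}) (f : Y ⟶ X) (g : X ⟶ c.pt) (qX : X ⟶ X₁)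
      (qY : Y ⟶ Y₁), IsPullback qX g g₁ (c.π.app i₁) → IsPullback qY f f₁ qX → Pr f →
      ∃ (i : I) (φ : i ⟶ i₁) (Yi Xi : Scheme.{u}) (fi : Yi ⟶ Xi) (gi : Xi ⟶ D.obj i) (pX : Xi ⟶ X₁)
        (pY : Yi ⟶ Y₁), IsPullback pX gi g₁ (D.map φ) ∧ IsPullback pY fi f₁ pX ∧ Pr fi)
    {Y : Scheme.{u}} (f : Y ⟶ X) [LocallyOfFinitePresentation f] [QuasiCompact f] [QuasiSeparated f] (hf : Pr f) :
    Ev D c p₀ a b (fun Xi _ u => ∃ (Yi : Scheme.{u}) (fi : Yi ⟶ Xi) (v : Y ⟶ Yi), Pr fi ∧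
      LocallyOfFinitePresentation fi ∧ QuasiCompact fi ∧ QuasiSeparated fi ∧ IsPullback v f fi u) := by
  have := compact_bc D (p₀ := p₀)
  have := qs_bc D (p₀ := p₀)
  obtain ⟨j, Yj, fj, g, h1, h2, h3, h4⟩ := Groth.Agent.S0591.result (bcDiagram D i₀ p₀) (bcCone D c i₀ p₀)
    (isLimitBcCone D c i₀ p₀ hc) Y (f ≫ hX.isoPullback.hom)
  have h5 : IsPullback (𝟙 Y) f (f ≫ hX.isoPullback.hom) hX.isoPullback.hom :=
    IsPullback.of_horiz_isIso ⟨by rw [Category.id_comp]⟩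
  have h6 := h5.paste_horiz h4
  rw [Category.id_comp] at h6
  let X₁ : Scheme.{u} := pullback p₀ (D.map j.hom)
  let a₁ : X ⟶ X₁ := hX.isoPullback.hom ≫ (bcCone D c i₀ p₀).π.app j
  have hX₁ : IsPullback (pullback.fst p₀ (D.map j.hom)) (pullback.snd p₀ (D.map j.hom)) p₀ (D.map j.hom) :=
    .of_hasPullback _ _
  have ha₁ : a₁ ≫ pullback.fst p₀ (D.map j.hom) = a := by
    rw [Category.assoc]
    have h7 : (bcCone D c i₀ p₀).π.app j ≫ pullback.fst p₀ (D.map j.hom) = pullback.fst p₀ (c.π.app i₀) :=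
      bcCone_π_fst D c i₀ p₀ j
    erw [h7]
    exact hX.isoPullback_hom_fst
  have hb₁ : a₁ ≫ pullback.snd p₀ (D.map j.hom) = b ≫ c.π.app j.left := by
    rw [Category.assoc]
    have h7 : (bcCone D c i₀ p₀).π.app j ≫ pullback.snd p₀ (D.map j.hom) =
        pullback.snd p₀ (c.π.app i₀) ≫ c.π.app j.left := pullback.lift_snd _ _ _
    erw [h7]
    rw [← Category.assoc, hX.isoPullback_hom_snd]
  have h8 : IsPullback a₁ b (pullback.snd p₀ (D.map j.hom)) (c.π.app j.left) :=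
    isPullback_stage D c hX hX₁ ha₁ hb₁
  have hc1 : CompactSpace X₁ := compact_bc D (p₀ := p₀) j
  have hq1 : QuasiSeparatedSpace X₁ := qs_bc D (p₀ := p₀) j
  have hcY : CompactSpace Yj := QuasiCompact.compactSpace_of_compactSpace (Y := X₁) fj
  have hqY : QuasiSeparatedSpace Yj := quasiSeparatedSpace_of_quasiSeparated (Y := X₁) fj
  obtain ⟨i, φ, Yi, Xi, fi, gi, pX, pY, k1, k2, k3⟩ := hdesc j.left X₁ Yj fj
    (pullback.snd p₀ (D.map j.hom)) hc1 hcY hq1 hqY h1 Y X f b a₁ g h8 h6 hf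
  -- the stage `i`
  have m1 : IsPullback (pX ≫ pullback.fst p₀ (D.map j.hom)) gi p₀ (D.map (φ ≫ j.hom)) := by
    rw [D.map_comp]
    exact k1.paste_horiz hX₁
  let u : X ⟶ Xi := k1.lift a₁ (b ≫ c.π.app i) (by rw [hb₁, Category.assoc, c.w])
  have hu1 : u ≫ pX = a₁ := k1.lift_fst _ _ _
  have hu2 : u ≫ gi = b ≫ c.π.app i := k1.lift_snd _ _ _
  let v : Y ⟶ Yi := k2.lift g (f ≫ u) (by rw [h6.w, Category.assoc, hu1])
  have hv1 : v ≫ pY = g := k2.lift_fst _ _ _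
  have hv2 : v ≫ fi = f ≫ u := k2.lift_snd _ _ _
  have m2 : IsPullback v f fi u := by
    refine IsPullback.of_right (h₁₂ := pY) (h₂₂ := pX) ?_ hv2 k2
    rw [hv1, hu1]
    exact h6
  refine Ev.of_stage (fun Xi Xj r ai u _ h => child_stable Pr f Xi Xj r u h) (φ ≫ j.hom) Xi
    (pX ≫ pullback.fst p₀ (D.map j.hom)) gi u m1 ?_ hu2 ⟨Yi, fi, v, k3,
      MorphismProperty.of_isPullback (P := @LocallyOfFinitePresentation) k2 h1,
      MorphismProperty.of_isPullback (P := @QuasiCompact) k2 h2,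
      MorphismProperty.of_isPullback (P := @QuasiSeparated) k2 h3, m2⟩
  rw [← Category.assoc, hu1, ha₁]

theorem ev_etale [∀ i, CompactSpace (D.obj i)] [∀ i, QuasiSeparatedSpace (D.obj i)]
    [CompactSpace X₀] [QuasiSeparatedSpace X₀]
    {Y : Scheme.{u}} (f : Y ⟶ X) [Etale f] [QuasiCompact f] [QuasiSeparated f] :
    Ev D c p₀ a b (fun Xi _ u => ∃ (Yi : Scheme.{u}) (fi : Yi ⟶ Xi) (v : Y ⟶ Yi), Etale fi ∧
      LocallyOfFinitePresentation fi ∧ QuasiCompact fi ∧ QuasiSeparated fi ∧ IsPullback v f fi u) := by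
  refine ev_child D c hX hc @Etale ?_ f inferInstance
  intro i₁ X₁ Y₁ f₁ g₁ _ _ _ _ _ Y X f g qX qY h1 h2 h3
  have : Etale f := h3
  obtain ⟨i, φ, Yi, Xi, fi, gi, pX, pY, k1, k2, k3⟩ :=
    Groth.Agent.S9192.result D c hc i₁ f₁ g₁ f g qX qY h1 h2
  exact ⟨i, φ, Yi, Xi, fi, gi, pX, pY, k1, k2, k3⟩

theorem ev_proper [∀ i, CompactSpace (D.obj i)] [∀ i, QuasiSeparatedSpace (D.obj i)]
    [CompactSpace X₀] [QuasiSeparatedSpace X₀]
    {Y : Scheme.{u}} (f : Y ⟶ X) [IsProper f] [LocallyOfFinitePresentation f] :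
    Ev D c p₀ a b (fun Xi _ u => ∃ (Yi : Scheme.{u}) (fi : Yi ⟶ Xi) (v : Y ⟶ Yi), IsProper fi ∧
      LocallyOfFinitePresentation fi ∧ QuasiCompact fi ∧ QuasiSeparated fi ∧ IsPullback v f fi u) := by
  refine ev_child D c hX hc @IsProper ?_ f inferInstance
  intro i₁ X₁ Y₁ f₁ g₁ _ _ _ _ _ Y X f g qX qY h1 h2 h3
  have : IsProper f := h3
  obtain ⟨i, φ, Yi, Xi, fi, gi, pX, pY, k1, k2, k3⟩ :=
    Groth.Agent.S2074.result D c hc i₁ f₁ g₁ f g qX qY h1 h2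
  exact ⟨i, φ, Yi, Xi, fi, gi, pX, pY, k1, k2, k3⟩

end Lim

end K119.StageEv
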