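import Groth.Agent.EtDl.K119.SncLoc
import Mathlib.AlgebraicGeometry.Noetherian
import Mathlib.AlgebraicGeometry.PullbackCarrier

/-!
# Certificates and open immersions

* `cert_cover` : a criterion for opens of an affine scheme;
* `cert_of_isIso` : invariance under isomorphisms;
* `cert_open` : restriction of a certificate along a quasi-compact open immersion.
-/

set_option autoImplicit false
universe u

open CategoryTheory CategoryTheory.Limits AlgebraicGeometry

namespace K119.CertOpen

open K556.CertDef K119.SncLoc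

/-- A criterion for quasi-compact opens of an affine scheme. -/
theorem cert_cover {R : Type u} [CommRing R] {ι : Type} [Finite ι] (z : ι → R) {H : Scheme.{u}} [CompactSpace H]
    (j : H ⟶ Spec (CommRingCat.of R)) [IsOpenImmersion j] (V : H.Opens)
    (hV : ∀ h : H, (∀ i, z i ∉ (j h).asIdeal) → h ∈ V)
    (hcov : ∀ h : H, ∃ g : R, g ∉ (j h).asIdeal ∧
      (∀ x : Spec (CommRingCat.of R), g ∉ x.asIdeal → x ∈ Set.range j) ∧
      SNC (Localization.Away g) (fun i => algebraMap R (Localization.Away g) (z i))) : Cert H V := by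
  classical
  choose g hg1 hg2 hg3 using hcov
  have hqs : QuasiSeparatedSpace H := quasiSeparatedSpace_of_quasiSeparated j
  let s : ∀ h : H, Spec (CommRingCat.of (Localization.Away (g h))) ⟶ Spec (CommRingCat.of R) :=
    fun h => Spec.map (CommRingCat.ofHom (algebraMap R (Localization.Away (g h))))
  have hs : ∀ h, IsOpenImmersion (s h) := fun h =>
    inferInstanceAs (IsOpenImmersion (Spec.map (CommRingCat.ofHom (algebraMap R (Localization.Away (g h))))))
  have hsr : ∀ h, Set.range (s h) = {x | g h ∉ x.asIdeal} := by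
    intro h
    exact PrimeSpectrum.localization_away_comap_range (Localization.Away (g h)) (g h)
  have hle : ∀ h, Set.range (s h) ⊆ Set.range j := by
    intro h
    rw [hsr]
    exact fun x hx => hg2 h x hx
  let ρ : ∀ h : H, Spec (CommRingCat.of (Localization.Away (g h))) ⟶ H := fun h =>
    IsOpenImmersion.lift j (s h) (hle h)
  have hρ : ∀ h, ρ h ≫ j = s h := fun h => IsOpenImmersion.lift_fac j (s h) (hle h)
  have hρo : ∀ h, IsOpenImmersion (ρ h) := fun h => by
    have : IsOpenImmersion (ρ h ≫ j) := by rw [hρ]; exact hs h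
    exact IsOpenImmersion.of_comp (ρ h) j
  have hmem : ∀ h, h ∈ Set.range (ρ h) := by
    intro h
    have h1 : j h ∈ Set.range (s h) := by
      rw [hsr]
      exact hg1 h
    obtain ⟨y, hy⟩ := h1
    refine ⟨y, ?_⟩
    apply j.isOpenEmbedding.injective
    rw [← hy, ← Scheme.Hom.comp_apply, hρ]
  obtain ⟨t, ht⟩ := isCompact_univ.elim_finite_subcover (fun h : H => Set.range (ρ h))
    (fun h => (ρ h).isOpenEmbedding.isOpen_range) (fun h _ => Set.mem_iUnion.mpr ⟨h, hmem h⟩)
  let k := t.card
  let e : Fin k → H := fun a => (t.equivFin.symm a : H)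
  refine Cert.etale V (fun a : Fin k => Spec (CommRingCat.of (Localization.Away (g (e a))))) (fun a => ρ (e a))
    (fun a => ?_) (fun a => ?_) (fun x => ?_) (fun a => ?_)
  · have := hρo (e a)
    infer_instance
  · infer_instance
  · obtain ⟨h, hh⟩ := Set.mem_iUnion.mp (ht (Set.mem_univ x))
    obtain ⟨hht, hx⟩ := Set.mem_iUnion.mp hh
    refine ⟨t.equivFin ⟨h, hht⟩, ?_⟩
    have : e (t.equivFin ⟨h, hht⟩) = h := by simp [e]
    rw [this]
    exact hx
  · refine Cert.leaf _ _ (hg3 (e a)) _ fun p hp => ?_
    change ρ (e a) p ∈ V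
    apply hV
    intro i hi
    refine hp i ?_
    rw [← Scheme.Hom.comp_apply, hρ] at hi
    exact hi

/-- Invariance under isomorphisms. -/
theorem cert_of_isIso {X Y : Scheme.{u}} (e : Y ⟶ X) [IsIso e] (V : X.Opens) (h : Cert Y (e ⁻¹ᵁ V)) :
    Cert X V :=
  Cert.etale V (k := 1) (fun _ => Y) (fun _ => e) (fun _ => inferInstance) (fun _ => inferInstance)
    (fun x => ⟨0, e.surjective x⟩) (fun _ => h)

/-- Restriction of a certificate along a quasi-compact open immersion. -/
theorem cert_open {X : Scheme.{u}} {V : X.Opens} (hX : Cert X V) :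
    ∀ (H : Scheme.{u}) (j : H ⟶ X) [IsOpenImmersion j] [QuasiCompact j], Cert H (j ⁻¹ᵁ V) := by
  induction hX with
  | @leaf R _ ι _ z h V hV =>
    intro H j _ _
    have : CompactSpace H := QuasiCompact.compactSpace_of_compactSpace j
    refine cert_cover z j _ (fun h hh => hV _ hh) fun x => ?_
    obtain ⟨_, ⟨g, rfl⟩, hg1, hg2⟩ := PrimeSpectrum.isTopologicalBasis_basic_opens.exists_subset_of_mem_open
      (⟨x, rfl⟩ : j x ∈ Set.range j) j.isOpenEmbedding.isOpen_range
    exact ⟨g, hg1, fun y hy => hg2 hy, snc_localization (Submonoid.powers g) h⟩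
  | @etale X V k Y f h1 h2 h3 h ih =>
    intro H j _ _
    refine Cert.etale _ (fun a => pullback (f a) j) (fun a => pullback.snd (f a) j) (fun a => ?_) (fun a => ?_)
      (fun x => ?_) (fun a => ?_)
    · have := h1 a
      infer_instance
    · have := h2 a
      infer_instance
    · obtain ⟨a, y, hy⟩ := h3 (j x)
      obtain ⟨w, -, hw⟩ := Scheme.Pullback.exists_preimage_pullback (f := f a) (g := j) y x hy
      exact ⟨a, w, hw⟩
    · have h4 := ih a (pullback (f a) j) (pullback.fst (f a) j)
      rw [← Scheme.Hom.comp_preimage, pullback.condition, Scheme.Hom.comp_preimage] at h4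
      exact h4
  | @proper X V k Y f h1 h3 h ih =>
    intro H j _ _
    refine Cert.proper _ (fun a => pullback (f a) j) (fun a => pullback.snd (f a) j) (fun a => ?_)
      (fun x hx => ?_) (fun a => ?_)
    · have := h1 a
      infer_instance
    · obtain ⟨a, y, hy⟩ := h3 (j x) hx
      obtain ⟨w, -, hw⟩ := Scheme.Pullback.exists_preimage_pullback (f := f a) (g := j) y x hy
      exact ⟨a, w, hw⟩
    · have h4 := ih a (pullback (f a) j) (pullback.fst (f a) j)
      rw [← Scheme.Hom.comp_preimage, pullback.condition, Scheme.Hom.comp_preimage] at h4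
      exact h4

end K119.CertOpen
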