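import Groth.Agent.EtDl.K119.LeafEv
import Mathlib.AlgebraicGeometry.Morphisms.UniversallyOpen

/-!
# Certificates at a finite stage

Let `lim D` be a cofiltered limit of affine Noetherian schemes, smooth over `Spec B`, `B` a J-2 ring, the limit being
affine, Noetherian and flat over `B`. If `X₀` is of finite presentation over a stage `D i₀`, `V₀` is open in `X₀` and
`X = X₀ ×_{D i₀} lim D` has a certificate for the preimage of `V₀`, then for all large `i` the image of `X` in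
`Xᵢ = X₀ ×_{D i₀} Dᵢ` is contained in an open subset `G` which has a certificate for the preimage of `V₀`.
-/

set_option autoImplicit false
universe u

open CategoryTheory CategoryTheory.Limits AlgebraicGeometry Opposite

namespace K119.CertStage

open K556.CertDef K119.StageEv K119.SncLoc K119.LeafEv K119.CertOpen

variable {I : Type u} [SmallCategory I] {D : I ⥤ Scheme.{u}} {c : Cone D}

/-- Eventual properties of a scheme of finite presentation over `X₀`. -/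
theorem ev_over {i₀ : I} {X₀ X Y₀ Y : Scheme.{u}} {p₀ : X₀ ⟶ D.obj i₀} {a : X ⟶ X₀} {b : X ⟶ c.pt}
    (f₀ : Y₀ ⟶ X₀) (f : Y ⟶ X) (v : Y ⟶ Y₀)
    {Q : ∀ Yi : Scheme.{u}, (Yi ⟶ Y₀) → (Y ⟶ Yi) → Prop} (h : Ev D c (f₀ ≫ p₀) v (f ≫ b) Q) :
    Ev D c p₀ a b (fun Xi ai u => ∀ (Yi : Scheme.{u}) (gi : Yi ⟶ Y₀) (fi : Yi ⟶ Xi) (w : Y ⟶ Yi),
      IsPullback gi fi f₀ ai → w ≫ gi = v → w ≫ fi = f ≫ u → Q Yi gi w) := by
  obtain ⟨i₁, φ₁, h⟩ := h
  refine ⟨i₁, φ₁, fun i φ Xi ai pi u h1 _ h3 Yi gi fi w k1 k2 k3 => ?_⟩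
  refine h i φ Yi gi (fi ≫ pi) w (k1.paste_vert h1) k2 ?_
  rw [← Category.assoc, k3, Category.assoc, h3, Category.assoc]

/-- A certificate for an open subset given by its étale pieces. -/
theorem cert_union_etale {X : Scheme.{u}} [IsNoetherian X] (V : X.Opens) {k : ℕ} (Y : Fin k → Scheme.{u})
    (f : ∀ a, Y a ⟶ X) [∀ a, Etale (f a)] [∀ a, IsNoetherian (Y a)] (W : ∀ a, (Y a).Opens)
    (G : X.Opens) (hG : (G : Set X) = ⋃ a, f a '' (W a : Set (Y a)))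
    (h : ∀ a, Cert (W a : Scheme.{u}) ((W a).ι ⁻¹ᵁ f a ⁻¹ᵁ V)) : Cert (G : Scheme.{u}) (G.ι ⁻¹ᵁ V) := by
  have hle : ∀ a, W a ≤ f a ⁻¹ᵁ G := fun a y hy => by
    change f a y ∈ (G : Set X)
    rw [hG]
    exact Set.mem_iUnion.mpr ⟨a, y, hy, rfl⟩
  refine Cert.etale _ (fun a => (W a : Scheme.{u})) (fun a => (f a).resLE G (W a) (hle a)) (fun a => ?_)
    (fun a => ?_) (fun x => ?_) (fun a => ?_)
  · infer_instance
  · have : TopologicalSpace.NoetherianSpace (W a : Scheme.{u}) :=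
      (W a).ι.isOpenEmbedding.isInducing.noetherianSpace
    infer_instance
  · have hx : x.1 ∈ (G : Set X) := x.2
    rw [hG] at hx
    obtain ⟨a, y, hy, hyx⟩ := Set.mem_iUnion.mp hx
    refine ⟨a, ⟨y, hy⟩, Subtype.ext ?_⟩
    rw [Scheme.Hom.coe_resLE_apply]
    exact hyx
  · rw [← Scheme.Hom.comp_preimage, Scheme.Hom.resLE_comp_ι, Scheme.Hom.comp_preimage]
    exact h a

/-- A certificate for the complement of the bad loci of a proper family. -/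
theorem cert_compl_proper {X : Scheme.{u}} [IsNoetherian X] (V : X.Opens) {k : ℕ} (Y : Fin k → Scheme.{u})
    (f : ∀ a, Y a ⟶ X) [∀ a, IsProper (f a)] [∀ a, IsNoetherian (Y a)] (W : ∀ a, (Y a).Opens)
    (hV : ∀ x ∈ V, ∃ a, x ∈ Set.range (f a))
    (G : X.Opens) (hG : (G : Set X) = (⋃ a, f a '' ((W a : Set (Y a))ᶜ))ᶜ)
    (h : ∀ a, Cert (W a : Scheme.{u}) ((W a).ι ⁻¹ᵁ f a ⁻¹ᵁ V)) : Cert (G : Scheme.{u}) (G.ι ⁻¹ᵁ V) := by
  have hle : ∀ a, f a ⁻¹ᵁ G ≤ W a := fun a y hy => by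
    by_contra hy2
    have h1 : f a y ∈ (G : Set X) := hy
    rw [hG] at h1
    exact h1 (Set.mem_iUnion.mpr ⟨a, y, hy2, rfl⟩)
  refine Cert.proper _ (fun a => ((f a ⁻¹ᵁ G : (Y a).Opens) : Scheme.{u})) (fun a => f a ∣_ G) (fun a => ?_)
    (fun x hx => ?_) (fun a => ?_)
  · exact IsZariskiLocalAtTarget.restrict (P := @IsProper) inferInstance G
  · obtain ⟨a, y, hy⟩ := hV x.1 hx
    have hyG : y ∈ f a ⁻¹ᵁ G := by
      change f a y ∈ G
      rw [hy]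
      exact x.2
    refine ⟨a, ⟨y, hyG⟩, Subtype.ext ?_⟩
    rw [morphismRestrict_base]
    exact hy
  · have h1 := cert_open (h a) _ ((Y a).homOfLE (hle a))
    rw [← Scheme.Hom.comp_preimage, ← Scheme.Hom.comp_preimage, Scheme.homOfLE_ι] at h1
    rw [← Scheme.Hom.comp_preimage, morphismRestrict_ι]
    exact h1

theorem noeth_of_lfp {X S : Scheme.{u}} [IsNoetherian S] (f : X ⟶ S) [LocallyOfFiniteType f] [QuasiCompact f] :
    IsNoetherian X := by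
  have h1 : IsLocallyNoetherian X := LocallyOfFiniteType.isLocallyNoetherian f
  have h2 : CompactSpace X := QuasiCompact.compactSpace_of_compactSpace f
  exact {}

/-- The opens on which a family has strict normal crossings. -/
theorem cert_snc {X : Scheme.{u}} [IsAffine X] [IsNoetherian X] {ι : Type} [Finite ι] (z : ι → Γ(X, ⊤))
    (V : X.Opens) (hV : ∀ x : X, (∀ k, x ∈ X.basicOpen (z k)) → x ∈ V) (S : Set X)
    (hS : ∀ x ∈ S, ∃ g : Γ(X, ⊤), x ∈ X.basicOpen g ∧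
      SNC (Localization.Away g) (fun k => algebraMap _ _ (z k))) :
    ∃ G : X.Opens, S ⊆ G ∧ Cert (G : Scheme.{u}) (G.ι ⁻¹ᵁ V) := by
  let T : Set Γ(X, ⊤) := {g | SNC (Localization.Away g) (fun k => algebraMap _ _ (z k))}
  let G : X.Opens := ⨆ g : T, X.basicOpen g.1
  have hGmem : ∀ x, x ∈ G ↔ ∃ g : T, x ∈ X.basicOpen g.1 := fun x => TopologicalSpace.Opens.mem_iSup
  refine ⟨G, fun x hx => ?_, ?_⟩
  · obtain ⟨g, hg1, hg2⟩ := hS x hx
    exact (hGmem x).mpr ⟨⟨g, hg2⟩, hg1⟩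
  · have hns : TopologicalSpace.NoetherianSpace (G : Scheme.{u}) := G.ι.isOpenEmbedding.isInducing.noetherianSpace
    have hcG : CompactSpace (G : Scheme.{u}) := inferInstance
    let j : (G : Scheme.{u}) ⟶ Spec (CommRingCat.of Γ(X, ⊤)) := G.ι ≫ X.toSpecΓ
    have hj : ∀ h : (G : Scheme.{u}), (j h).asIdeal = pt X (G.ι h) := by
      intro h
      change (j h).asIdeal = (X.toSpecΓ (G.ι h)).asIdeal
      rw [← Scheme.Hom.comp_apply]
    have hjo : IsOpenImmersion j := inferInstance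
    refine cert_cover z j (G.ι ⁻¹ᵁ V) (fun h hh => ?_) (fun h => ?_)
    · refine hV _ fun k => ?_
      have := hh k
      rw [hj] at this
      exact (not_mem_pt _ _).mp this
    · obtain ⟨g, hg⟩ := (hGmem (G.ι h)).mp h.2
      refine ⟨g.1, ?_, fun y hy => ?_, g.2⟩
      · rw [hj]
        exact (not_mem_pt _ _).mpr hg
      · obtain ⟨x, rfl⟩ := X.toSpecΓ.surjective y
        have hx : x ∈ X.basicOpen g.1 := (not_mem_pt x g.1).mp hy
        have hxG : x ∈ G := (hGmem x).mpr ⟨g, hx⟩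
        exact ⟨⟨x, hxG⟩, rfl⟩

variable (D c)

/-- The conclusion for a node. -/
def Concl {i₀ : I} {X₀ X : Scheme.{u}} (p₀ : X₀ ⟶ D.obj i₀) (a : X ⟶ X₀) (b : X ⟶ c.pt) (V₀ : X₀.Opens) : Prop :=
  Ev D c p₀ a b (fun Xi ai u => ∃ G : Xi.Opens, (∀ x : X, u x ∈ G) ∧ Cert (G : Scheme.{u}) (G.ι ⁻¹ᵁ ai ⁻¹ᵁ V₀))

/-- The claim of the induction. -/
def Claim (X : Scheme.{u}) (V : X.Opens) : Prop :=
  ∀ (i₀ : I) (X₀ : Scheme.{u}) (p₀ : X₀ ⟶ D.obj i₀) (_ : LocallyOfFinitePresentation p₀) (_ : QuasiCompact p₀)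
    (_ : QuasiSeparated p₀) (a : X ⟶ X₀) (b : X ⟶ c.pt) (_ : IsPullback a b p₀ (c.π.app i₀)) (V₀ : X₀.Opens),
    a ⁻¹ᵁ V₀ = V → Concl D c p₀ a b V₀

variable {D c}

/-- Passage to a later stage. -/
theorem Concl.shift {i₀ i₁ : I} {X₀ X₁ X : Scheme.{u}} {p₀ : X₀ ⟶ D.obj i₀} {a : X ⟶ X₀} {b : X ⟶ c.pt}
    {V₀ : X₀.Opens} (φ₁ : i₁ ⟶ i₀) (r : X₁ ⟶ X₀) (p₁ : X₁ ⟶ D.obj i₁)
    (h : IsPullback r p₁ p₀ (D.map φ₁)) (a₁ : X ⟶ X₁) (ha : a₁ ≫ r = a) (hb : a₁ ≫ p₁ = b ≫ c.π.app i₁)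
    (hE : Concl D c p₁ a₁ b (r ⁻¹ᵁ V₀)) : Concl D c p₀ a b V₀ := by
  refine Ev.shift φ₁ r p₁ h a₁ ha hb (Ev.mono hE ?_)
  rintro i φ Xi ai pi u - - - ⟨G, h1, h2⟩
  refine ⟨G, h1, ?_⟩
  rw [Scheme.Hom.comp_preimage]
  exact h2

/-- Instantiate an eventual property at a stage. -/
theorem Ev.exists_stage {i₀ : I} {X₀ X : Scheme.{u}} {p₀ : X₀ ⟶ D.obj i₀} {a : X ⟶ X₀} {b : X ⟶ c.pt}
    {P : ∀ Xi : Scheme.{u}, (Xi ⟶ X₀) → (X ⟶ Xi) → Prop} (hX : IsPullback a b p₀ (c.π.app i₀))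
    (h : Ev D c p₀ a b P) : ∃ (i₁ : I) (φ₁ : i₁ ⟶ i₀) (X₁ : Scheme.{u}) (r : X₁ ⟶ X₀) (p₁ : X₁ ⟶ D.obj i₁)
      (a₁ : X ⟶ X₁), IsPullback r p₁ p₀ (D.map φ₁) ∧ a₁ ≫ r = a ∧ a₁ ≫ p₁ = b ≫ c.π.app i₁ ∧ P X₁ r a₁ := by
  obtain ⟨i₁, φ₁, h⟩ := h
  have h1 : IsPullback (pullback.fst p₀ (D.map φ₁)) (pullback.snd p₀ (D.map φ₁)) p₀ (D.map φ₁) :=
    .of_hasPullback _ _
  have hw : a ≫ p₀ = (b ≫ c.π.app i₁) ≫ D.map φ₁ := by rw [Category.assoc, c.w, hX.w]
  refine ⟨i₁, φ₁, _, _, _, pullback.lift a (b ≫ c.π.app i₁) hw, h1, pullback.lift_fst _ _ _,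
    pullback.lift_snd _ _ _, ?_⟩
  refine h i₁ (𝟙 _) _ _ (pullback.snd p₀ (D.map φ₁)) _ ?_ (pullback.lift_fst _ _ _) (pullback.lift_snd _ _ _)
  rw [Category.id_comp]
  exact h1

section Main

variable [IsCofiltered I] [∀ (i j : I) (f : i ⟶ j), IsAffineHom (D.map f)] [∀ i, IsAffine (D.obj i)]
  [∀ i, IsNoetherian (D.obj i)] [IsAffine c.pt] [IsNoetherian c.pt] (hc : IsLimit c)
  {B : Type u} [CommRing B] (hJ : EGA4.IsJ2 B) (β : ∀ i, D.obj i ⟶ Spec (CommRingCat.of B))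
  [∀ i, Smooth (β i)] (hfl : ∀ i, Flat (c.π.app i ≫ β i))

include hc hJ hfl

theorem claim_leaf (R : Type u) [CommRing R] {ι : Type} [Finite ι] (z : ι → R) (h : SNC R z)
    (V : (Spec (CommRingCat.of R)).Opens)
    (hV : ∀ p : Spec (CommRingCat.of R), (∀ i, z i ∉ p.asIdeal) → p ∈ V) :
    Claim D c (Spec (CommRingCat.of R)) V := by
  intro i₀ X₀ p₀ _ _ _ a b hX V₀ hV₀
  have hN0 : IsNoetherian X₀ := noeth_of_lfp p₀
  let e : R ≃+* Γ(Spec (CommRingCat.of R), ⊤) :=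
    (Scheme.ΓSpecIso (CommRingCat.of R)).symm.commRingCatIsoToRingEquiv
  obtain ⟨i₁, φ₁, X₁, r, p₁, a₁, h1, ha, hb, hXa, hsec⟩ := Ev.exists_stage hX
    (Ev.and (ev_isAffine D c hX hc) (Ev.forall_finite fun k : ι => ev_section D c hX hc (e (z k))))
  refine Concl.shift φ₁ r p₁ h1 a₁ ha hb ?_
  have hX₁ := isPullback_stage D c hX h1 ha hb
  choose z₁ hz₁ using hsec
  have hlfp : LocallyOfFinitePresentation p₁ :=
    MorphismProperty.of_isPullback (P := @LocallyOfFinitePresentation) h1 inferInstance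
  have hN1 : IsNoetherian X₁ := noeth_of_lfp p₁
  have hz : SNC Γ(Spec (CommRingCat.of R), ⊤) (fun k => a₁.appTop.hom (z₁ k)) :=
    snc_of_equiv' e (fun k => (hz₁ k).symm) h
  let U : X₁.Opens := ⟨⋂ k : ι, (X₁.basicOpen (z₁ k) : Set X₁), isOpen_iInter_of_finite fun k => (X₁.basicOpen (z₁ k)).2⟩
  have hUmem : ∀ x, x ∈ U ↔ ∀ k, x ∈ X₁.basicOpen (z₁ k) := fun x => Set.mem_iInter
  have hle : a₁ ⁻¹ᵁ U ≤ a₁ ⁻¹ᵁ (r ⁻¹ᵁ V₀) := by
    intro x hx
    rw [← Scheme.Hom.comp_preimage, ha, hV₀]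
    apply hV
    intro k hk
    have h2 : x ∈ a₁ ⁻¹ᵁ X₁.basicOpen (z₁ k) := (hUmem _).mp hx k
    rw [Scheme.preimage_basicOpen_top] at h2
    have h3 : a₁.appTop.hom (z₁ k) = (Scheme.ΓSpecIso (CommRingCat.of R)).inv.hom (z k) := hz₁ k
    have h4 : x ∈ (Spec (CommRingCat.of R)).basicOpen ((Scheme.ΓSpecIso (CommRingCat.of R)).inv.hom (z k)) := by
      rw [← h3]; exact h2
    rw [basicOpen_eq_of_affine] at h4
    exact h4 hk
  refine Ev.mono (Ev.and (ev_snc D c hc hJ β hfl hX₁ z₁ hz)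
    (ev_le D c hX₁ hc U (r ⁻¹ᵁ V₀) (TopologicalSpace.NoetherianSpace.isCompact _) hle)) ?_
  rintro i φ Xi ai pi u k1 k2 k3 ⟨m1, m2⟩
  have hai : IsAffineHom ai := MorphismProperty.of_isPullback (P := @IsAffineHom) k1.flip inferInstance
  have hXi : IsAffine Xi := isAffine_of_isAffineHom ai
  have : LocallyOfFinitePresentation pi :=
    MorphismProperty.of_isPullback (P := @LocallyOfFinitePresentation) k1 inferInstance
  have hNi : IsNoetherian Xi := noeth_of_lfp pi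
  have hVx : ∀ x : Xi, (∀ k, x ∈ Xi.basicOpen (ai.appTop.hom (z₁ k))) → x ∈ ai ⁻¹ᵁ (r ⁻¹ᵁ V₀) := by
    intro x hx
    refine m2 ((hUmem _).mpr fun k => ?_)
    have h4 := hx k
    have h5 : x ∈ ai ⁻¹ᵁ X₁.basicOpen (z₁ k) := by
      rw [Scheme.preimage_basicOpen_top]
      exact h4
    exact h5
  obtain ⟨G, hG1, hG2⟩ := cert_snc (fun k => ai.appTop.hom (z₁ k)) (ai ⁻¹ᵁ (r ⁻¹ᵁ V₀)) hVx
    (Set.range u) (by
      rintro _ ⟨x, rfl⟩
      exact m1 x)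
  exact ⟨G, fun x => hG1 ⟨x, rfl⟩, hG2⟩

omit [IsAffine c.pt] hJ hfl in
/-- Étale nodes. -/
theorem claim_etale {X : Scheme.{u}} (V : X.Opens) {k : ℕ} (Y : Fin k → Scheme.{u}) (f : ∀ a, Y a ⟶ X)
    (h1 : ∀ a, Etale (f a)) (h2 : ∀ a, QuasiCompact (f a)) (h3 : ∀ x : X, ∃ a, x ∈ Set.range (f a))
    (ih : ∀ a, Claim D c (Y a) ((f a) ⁻¹ᵁ V)) : Claim D c X V := by
  intro i₀ X₀ p₀ _ _ _ a b hX V₀ hV₀
  have hN0 : IsNoetherian X₀ := noeth_of_lfp p₀
  have hb1 : LocallyOfFinitePresentation b :=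
    MorphismProperty.of_isPullback (P := @LocallyOfFinitePresentation) hX inferInstance
  have hb2 : QuasiCompact b := MorphismProperty.of_isPullback (P := @QuasiCompact) hX inferInstance
  have hNX : IsNoetherian X := noeth_of_lfp b
  have hNY : ∀ t, IsNoetherian (Y t) := fun t => by
    have := h1 t
    have := h2 t
    exact noeth_of_lfp (f t)
  obtain ⟨i₁, φ₁, X₁, r, p₁, a₁, k1, ha, hb, hch⟩ := Ev.exists_stage hX
    (Ev.forall_finite fun t : Fin k => by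
      have := h1 t
      have := h2 t
      exact ev_etale D c hX hc (f t))
  refine Concl.shift φ₁ r p₁ k1 a₁ ha hb ?_
  have hX₁ := isPullback_stage D c hX k1 ha hb
  have hlfp : LocallyOfFinitePresentation p₁ :=
    MorphismProperty.of_isPullback (P := @LocallyOfFinitePresentation) k1 inferInstance
  have hqc : QuasiCompact p₁ := MorphismProperty.of_isPullback (P := @QuasiCompact) k1 inferInstance
  have hqs : QuasiSeparated p₁ := MorphismProperty.of_isPullback (P := @QuasiSeparated) k1 inferInstance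
  choose Y₁ f₁ v₁ m1 m2 m3 m4 m5 using hch
  -- the induction hypotheses
  have hchild : ∀ t : Fin k, Ev D c p₁ a₁ b (fun Xi ai u => ∀ (Yi : Scheme.{u}) (gi : Yi ⟶ Y₁ t) (fi : Yi ⟶ Xi)
      (w : Y t ⟶ Yi), IsPullback gi fi (f₁ t) ai → w ≫ gi = v₁ t → w ≫ fi = f t ≫ u →
      ∃ G : Yi.Opens, (∀ x : Y t, w x ∈ G) ∧
        Cert (G : Scheme.{u}) (G.ι ⁻¹ᵁ gi ⁻¹ᵁ (f₁ t ⁻¹ᵁ (r ⁻¹ᵁ V₀)))) := by
    intro t
    have := m2 t
    have := m3 t
    have := m4 t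
    refine ev_over (f₁ t) (f t) (v₁ t) ?_
    refine ih t i₁ (Y₁ t) (f₁ t ≫ p₁) inferInstance inferInstance inferInstance (v₁ t) (f t ≫ b)
      ((m5 t).paste_vert hX₁) _ ?_
    rw [← Scheme.Hom.comp_preimage, (m5 t).w, Scheme.Hom.comp_preimage, ← Scheme.Hom.comp_preimage a₁, ha, hV₀]
  refine Ev.mono (Ev.forall_finite hchild) ?_
  rintro i φ Xi ai pi u n1 n2 n3 hQ
  have : LocallyOfFinitePresentation pi :=
    MorphismProperty.of_isPullback (P := @LocallyOfFinitePresentation) n1 inferInstance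
  have : QuasiCompact pi := MorphismProperty.of_isPullback (P := @QuasiCompact) n1 inferInstance
  have hNi : IsNoetherian Xi := noeth_of_lfp pi
  let Yi : Fin k → Scheme.{u} := fun t => pullback (f₁ t) ai
  let gi : ∀ t, Yi t ⟶ Y₁ t := fun t => pullback.fst (f₁ t) ai
  let fi : ∀ t, Yi t ⟶ Xi := fun t => pullback.snd (f₁ t) ai
  have hpb : ∀ t, IsPullback (gi t) (fi t) (f₁ t) ai := fun t => .of_hasPullback _ _
  have hw : ∀ t, v₁ t ≫ f₁ t = (f t ≫ u) ≫ ai := fun t => by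
    rw [(m5 t).w, Category.assoc, n2]
  let w : ∀ t, Y t ⟶ Yi t := fun t => pullback.lift (v₁ t) (f t ≫ u) (hw t)
  have hw1 : ∀ t, w t ≫ gi t = v₁ t := fun t => pullback.lift_fst _ _ _
  have hw2 : ∀ t, w t ≫ fi t = f t ≫ u := fun t => pullback.lift_snd _ _ _
  have hfiE : ∀ t, Etale (fi t) := fun t =>
    MorphismProperty.of_isPullback (P := @Etale) (hpb t) (m1 t)
  have hfiQ : ∀ t, QuasiCompact (fi t) := fun t =>
    MorphismProperty.of_isPullback (P := @QuasiCompact) (hpb t) (m3 t)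
  have hNYi : ∀ t, IsNoetherian (Yi t) := fun t => noeth_of_lfp (fi t)
  choose W hW1 hW2 using fun t => hQ t (Yi t) (gi t) (fi t) (w t) (hpb t) (hw1 t) (hw2 t)
  have hopen : IsOpen (⋃ t, fi t '' (W t : Set (Yi t))) :=
    isOpen_iUnion fun t => (fi t).isOpenMap _ (W t).2
  refine ⟨⟨_, hopen⟩, fun x => ?_, ?_⟩
  · obtain ⟨t, y, hy⟩ := h3 x
    refine Set.mem_iUnion.mpr ⟨t, w t y, hW1 t y, ?_⟩
    rw [← Scheme.Hom.comp_apply, hw2, Scheme.Hom.comp_apply, hy]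
  · refine cert_union_etale _ Yi fi W _ rfl fun t => ?_
    have h5 := hW2 t
    rw [← Scheme.Hom.comp_preimage (gi t), (hpb t).w] at h5
    rw [← Scheme.Hom.comp_preimage (fi t)]
    exact h5

omit [IsAffine c.pt] hJ hfl in
/-- Proper nodes. -/
theorem claim_proper {X : Scheme.{u}} (V : X.Opens) {k : ℕ} (Y : Fin k → Scheme.{u}) (f : ∀ a, Y a ⟶ X)
    (h1 : ∀ a, IsProper (f a)) (h3 : ∀ x ∈ V, ∃ a, x ∈ Set.range (f a))
    (ih : ∀ a, Claim D c (Y a) ((f a) ⁻¹ᵁ V)) : Claim D c X V := by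
  intro i₀ X₀ p₀ _ _ _ a b hX V₀ hV₀
  have hN0 : IsNoetherian X₀ := noeth_of_lfp p₀
  have hb1 : LocallyOfFinitePresentation b :=
    MorphismProperty.of_isPullback (P := @LocallyOfFinitePresentation) hX inferInstance
  have hb2 : QuasiCompact b := MorphismProperty.of_isPullback (P := @QuasiCompact) hX inferInstance
  have hNX : IsNoetherian X := noeth_of_lfp b
  have hNY : ∀ t, IsNoetherian (Y t) := fun t => by
    have := h1 t
    exact noeth_of_lfp (f t)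
  obtain ⟨i₁, φ₁, X₁, r, p₁, a₁, k1, ha, hb, hch⟩ := Ev.exists_stage hX
    (Ev.forall_finite fun t : Fin k => by
      have := h1 t
      have : LocallyOfFinitePresentation (f t) :=
        LocallyOfFinitePresentation.iff_locallyOfFiniteType.mpr inferInstance
      exact ev_proper D c hX hc (f t))
  refine Concl.shift φ₁ r p₁ k1 a₁ ha hb ?_
  have hX₁ := isPullback_stage D c hX k1 ha hb
  have hlfp : LocallyOfFinitePresentation p₁ :=
    MorphismProperty.of_isPullback (P := @LocallyOfFinitePresentation) k1 inferInstance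
  have hqc : QuasiCompact p₁ := MorphismProperty.of_isPullback (P := @QuasiCompact) k1 inferInstance
  have hqs : QuasiSeparated p₁ := MorphismProperty.of_isPullback (P := @QuasiSeparated) k1 inferInstance
  have hNX₁ : IsNoetherian X₁ := noeth_of_lfp p₁
  choose Y₁ f₁ v₁ m1 m2 m3 m4 m5 using hch
  -- the induction hypotheses
  have hchild : ∀ t : Fin k, Ev D c p₁ a₁ b (fun Xi ai u => ∀ (Yi : Scheme.{u}) (gi : Yi ⟶ Y₁ t) (fi : Yi ⟶ Xi)
      (w : Y t ⟶ Yi), IsPullback gi fi (f₁ t) ai → w ≫ gi = v₁ t → w ≫ fi = f t ≫ u →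
      ∃ G : Yi.Opens, (∀ x : Y t, w x ∈ G) ∧
        Cert (G : Scheme.{u}) (G.ι ⁻¹ᵁ gi ⁻¹ᵁ (f₁ t ⁻¹ᵁ (r ⁻¹ᵁ V₀)))) := by
    intro t
    have := m2 t
    have := m3 t
    have := m4 t
    refine ev_over (f₁ t) (f t) (v₁ t) ?_
    refine ih t i₁ (Y₁ t) (f₁ t ≫ p₁) inferInstance inferInstance inferInstance (v₁ t) (f t ≫ b)
      ((m5 t).paste_vert hX₁) _ ?_
    rw [← Scheme.Hom.comp_preimage, (m5 t).w, Scheme.Hom.comp_preimage, ← Scheme.Hom.comp_preimage a₁, ha, hV₀]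
  -- surjectivity over `V`
  have hclosed : IsClosed (⋃ t, Set.range (f₁ t)) :=
    isClosed_iUnion_of_finite fun t => by
      have := m1 t
      exact (f₁ t).isClosedMap.isClosed_range
  let U : X₁.Opens := ⟨(r ⁻¹ᵁ V₀ : Set X₁) ∩ (⋃ t, Set.range (f₁ t))ᶜ, (r ⁻¹ᵁ V₀).2.inter hclosed.isOpen_compl⟩
  have hU : a₁ ⁻¹ᵁ U ≤ a₁ ⁻¹ᵁ ⊥ := by
    intro x hx
    exfalso
    have hx1 : a₁ x ∈ r ⁻¹ᵁ V₀ := hx.1
    have hx2 : a₁ x ∉ ⋃ t, Set.range (f₁ t) := hx.2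
    have hxV : x ∈ V := by
      rw [← hV₀, ← ha, Scheme.Hom.comp_preimage]
      exact hx1
    obtain ⟨t, y, hy⟩ := h3 x hxV
    refine hx2 (Set.mem_iUnion.mpr ⟨t, v₁ t y, ?_⟩)
    rw [← Scheme.Hom.comp_apply, (m5 t).w, Scheme.Hom.comp_apply, hy]
  refine Ev.mono (Ev.and (Ev.forall_finite hchild)
    (ev_le D c hX₁ hc U ⊥ (TopologicalSpace.NoetherianSpace.isCompact _) hU)) ?_
  rintro i φ Xi ai pi u n1 n2 n3 ⟨hQ, hsurj⟩
  have : LocallyOfFinitePresentation pi :=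
    MorphismProperty.of_isPullback (P := @LocallyOfFinitePresentation) n1 inferInstance
  have : QuasiCompact pi := MorphismProperty.of_isPullback (P := @QuasiCompact) n1 inferInstance
  have hNi : IsNoetherian Xi := noeth_of_lfp pi
  let Yi : Fin k → Scheme.{u} := fun t => pullback (f₁ t) ai
  let gi : ∀ t, Yi t ⟶ Y₁ t := fun t => pullback.fst (f₁ t) ai
  let fi : ∀ t, Yi t ⟶ Xi := fun t => pullback.snd (f₁ t) ai
  have hpb : ∀ t, IsPullback (gi t) (fi t) (f₁ t) ai := fun t => .of_hasPullback _ _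
  have hw : ∀ t, v₁ t ≫ f₁ t = (f t ≫ u) ≫ ai := fun t => by
    rw [(m5 t).w, Category.assoc, n2]
  let w : ∀ t, Y t ⟶ Yi t := fun t => pullback.lift (v₁ t) (f t ≫ u) (hw t)
  have hw1 : ∀ t, w t ≫ gi t = v₁ t := fun t => pullback.lift_fst _ _ _
  have hw2 : ∀ t, w t ≫ fi t = f t ≫ u := fun t => pullback.lift_snd _ _ _
  have hpb2 : ∀ t, IsPullback (w t) (f t) (fi t) u := fun t => by
    refine IsPullback.of_right (h₁₂ := gi t) (h₂₂ := ai) ?_ (hw2 t) (hpb t)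
    rw [hw1, n2]
    exact m5 t
  have hfiP : ∀ t, IsProper (fi t) := fun t =>
    MorphismProperty.of_isPullback (P := @IsProper) (hpb t) (m1 t)
  have hNYi : ∀ t, IsNoetherian (Yi t) := fun t => noeth_of_lfp (fi t)
  choose W hW1 hW2 using fun t => hQ t (Yi t) (gi t) (fi t) (w t) (hpb t) (hw1 t) (hw2 t)
  have hopen : IsOpen (⋃ t, fi t '' ((W t : Set (Yi t))ᶜ))ᶜ :=
    (isClosed_iUnion_of_finite fun t => (fi t).isClosedMap _ (W t).2.isClosed_compl).isOpen_compl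
  refine ⟨⟨_, hopen⟩, fun x hx => ?_, ?_⟩
  · obtain ⟨t, y, hyW, hyx⟩ := Set.mem_iUnion.mp hx
    obtain ⟨y', hy1, hy2⟩ := Scheme.exists_preimage_of_isPullback (hpb2 t) y x hyx
    have : y ∈ W t := by
      have h6 := hW1 t y'
      rw [hy1] at h6
      exact h6
    exact hyW this
  · refine cert_compl_proper _ Yi fi W (fun x hx => ?_) _ rfl fun t => ?_
    · by_contra hc'
      push Not at hc'
      have h6 : x ∈ ai ⁻¹ᵁ U := by
        refine ⟨hx, fun h7 => ?_⟩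
        obtain ⟨t, y, hy⟩ := Set.mem_iUnion.mp h7
        obtain ⟨y', hy1, hy2⟩ := Scheme.exists_preimage_of_isPullback (hpb t) y x hy
        exact hc' t ⟨y', hy2⟩
      exact hsurj h6
    · have h5 := hW2 t
      rw [← Scheme.Hom.comp_preimage (gi t), (hpb t).w] at h5
      rw [← Scheme.Hom.comp_preimage (fi t)]
      exact h5

/-- Certificates descend to open neighbourhoods of the image in large stages. -/
theorem claim_of_cert {X : Scheme.{u}} {V : X.Opens} (h : Cert X V) : Claim D c X V := by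
  induction h with
  | leaf R z h V hV => exact claim_leaf hc hJ β hfl R z h V hV
  | etale V Y f h1 h2 h3 h ih => exact claim_etale hc V Y f h1 h2 h3 ih
  | proper V Y f h1 h3 h ih => exact claim_proper hc V Y f h1 h3 ih

end Main

end K119.CertStage
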