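import Groth.Agent.EtDl.K119.RelExact
import Mathlib.Algebra.Category.Ring.FilteredColimits
import Mathlib.Algebra.Category.Ring.Constructions
import Mathlib.CategoryTheory.ConcreteCategory.Elementwise
import Mathlib.RingTheory.Polynomial.Basic

/-!
# Polynomials over filtered colimits of rings; relations at a finite stage
-/

set_option autoImplicit false
universe u

open CategoryTheory CategoryTheory.Limits

namespace K119.ColimPoly

open K119.RelExact

variable {J : Type u} [SmallCategory J] [IsFiltered J] {F : J ⥤ CommRingCat.{u}} {c : Cocone F}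

theorem exists_rep (hc : IsColimit c) (x : c.pt) : ∃ (j : J) (y : F.obj j), (c.ι.app j).hom y = x :=
  Concrete.isColimit_exists_rep F hc x

theorem exists_zero (hc : IsColimit c) (j : J) (y : F.obj j) (hy : (c.ι.app j).hom y = 0) :
    ∃ (j' : J) (φ : j ⟶ j'), (F.map φ).hom y = 0 := by
  obtain ⟨k, f, g, hfg⟩ := Concrete.isColimit_exists_of_rep_eq F hc y (0 : F.obj j)
    (by
      change (c.ι.app j).hom y = (c.ι.app j).hom 0
      rw [hy, map_zero])
  refine ⟨k, f, ?_⟩
  have : (F.map f).hom y = (F.map g).hom 0 := hfg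
  rw [this, map_zero]

theorem ι_map {j j' : J} (φ : j ⟶ j') (y : F.obj j) :
    (c.ι.app j').hom ((F.map φ).hom y) = (c.ι.app j).hom y := by
  have := c.w φ
  rw [← this]
  rfl

theorem ι_comp {j j' : J} (φ : j ⟶ j') : (c.ι.app j').hom.comp (F.map φ).hom = (c.ι.app j).hom :=
  RingHom.ext fun y => ι_map φ y

theorem map_map_comp {j j' j'' : J} (φ : j ⟶ j') (ψ : j' ⟶ j'') :
    (F.map ψ).hom.comp (F.map φ).hom = (F.map (φ ≫ ψ)).hom := by
  rw [F.map_comp]; rfl

theorem exists_zero_finset (hc : IsColimit c) (j : J) (T : Finset (F.obj j))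
    (hT : ∀ y ∈ T, (c.ι.app j).hom y = 0) : ∃ (j' : J) (φ : j ⟶ j'), ∀ y ∈ T, (F.map φ).hom y = 0 := by
  classical
  induction T using Finset.induction_on with
  | empty => exact ⟨j, 𝟙 j, by simp⟩
  | insert a T _ ih =>
    obtain ⟨j1, φ1, h1⟩ := ih fun y hy => hT y (Finset.mem_insert_of_mem hy)
    obtain ⟨j2, φ2, h2⟩ := exists_zero hc j1 ((F.map φ1).hom a) (by
      rw [ι_map]
      exact hT a (Finset.mem_insert_self _ _))
    refine ⟨j2, φ1 ≫ φ2, fun y hy => ?_⟩
    rw [← map_map_comp, RingHom.comp_apply]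
    rcases Finset.mem_insert.mp hy with rfl | hy
    · exact h2
    · rw [h1 y hy, map_zero]

variable {n : ℕ}

theorem exists_zero_poly (hc : IsColimit c) (j : J) (P : MvPolynomial (Fin n) (F.obj j))
    (hP : MvPolynomial.map (c.ι.app j).hom P = 0) :
    ∃ (j' : J) (φ : j ⟶ j'), MvPolynomial.map (F.map φ).hom P = 0 := by
  classical
  obtain ⟨j', φ, h⟩ := exists_zero_finset hc j (P.support.image fun m => P.coeff m) (by
    intro y hy
    obtain ⟨m, -, rfl⟩ := Finset.mem_image.mp hy
    have := congrArg (MvPolynomial.coeff m) hP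
    rwa [MvPolynomial.coeff_map, MvPolynomial.coeff_zero] at this)
  refine ⟨j', φ, ?_⟩
  ext m
  rw [MvPolynomial.coeff_map, MvPolynomial.coeff_zero]
  by_cases hm : m ∈ P.support
  · exact h _ (Finset.mem_image_of_mem _ hm)
  · rw [MvPolynomial.notMem_support_iff.mp hm, map_zero]

theorem exists_zero_poly_finite (hc : IsColimit c) {T : Type} [Finite T] (j : J)
    (P : T → MvPolynomial (Fin n) (F.obj j)) (hP : ∀ t, MvPolynomial.map (c.ι.app j).hom (P t) = 0) :
    ∃ (j' : J) (φ : j ⟶ j'), ∀ t, MvPolynomial.map (F.map φ).hom (P t) = 0 := by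
  classical
  have : Fintype T := Fintype.ofFinite T
  have key : ∀ S : Finset T, ∃ (j' : J) (φ : j ⟶ j'), ∀ t ∈ S, MvPolynomial.map (F.map φ).hom (P t) = 0 := by
    intro S
    induction S using Finset.induction_on with
    | empty => exact ⟨j, 𝟙 j, by simp⟩
    | insert a S _ ih =>
      obtain ⟨j1, φ1, h1⟩ := ih
      obtain ⟨j2, φ2, h2⟩ := exists_zero_poly hc j1 (MvPolynomial.map (F.map φ1).hom (P a)) (by
        rw [MvPolynomial.map_map, ι_comp]
        exact hP a)
      refine ⟨j2, φ1 ≫ φ2, fun t ht => ?_⟩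
      rw [← map_map_comp, ← MvPolynomial.map_map]
      rcases Finset.mem_insert.mp ht with rfl | ht
      · exact h2
      · rw [h1 t ht, map_zero]
  obtain ⟨j', φ, h⟩ := key Finset.univ
  exact ⟨j', φ, fun t => h t (Finset.mem_univ t)⟩

theorem exists_rep_poly (hc : IsColimit c) (P : MvPolynomial (Fin n) c.pt) :
    ∃ (j : J) (Q : MvPolynomial (Fin n) (F.obj j)), MvPolynomial.map (c.ι.app j).hom Q = P := by
  induction P using MvPolynomial.induction_on with
  | C a =>
    obtain ⟨j, y, rfl⟩ := exists_rep hc a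
    exact ⟨j, MvPolynomial.C y, MvPolynomial.map_C _ _⟩
  | add P Q hP hQ =>
    obtain ⟨j, P', rfl⟩ := hP
    obtain ⟨k, Q', rfl⟩ := hQ
    refine ⟨IsFiltered.max j k, MvPolynomial.map (F.map (IsFiltered.leftToMax j k)).hom P' +
      MvPolynomial.map (F.map (IsFiltered.rightToMax j k)).hom Q', ?_⟩
    rw [map_add, MvPolynomial.map_map, MvPolynomial.map_map, ι_comp, ι_comp]
  | mul_X P i hP =>
    obtain ⟨j, P', rfl⟩ := hP
    exact ⟨j, P' * MvPolynomial.X i, by rw [map_mul, MvPolynomial.map_X]⟩

theorem exists_rep_poly_finite (hc : IsColimit c) {T : Type} [Finite T] (j₀ : J)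
    (P : T → MvPolynomial (Fin n) c.pt) :
    ∃ (j : J) (_ : j₀ ⟶ j) (Q : T → MvPolynomial (Fin n) (F.obj j)),
      ∀ t, MvPolynomial.map (c.ι.app j).hom (Q t) = P t := by
  classical
  have : Fintype T := Fintype.ofFinite T
  choose k Q hQ using fun t => exists_rep_poly hc (P t)
  obtain ⟨j, hj⟩ := IsFiltered.sup_objs_exists (insert j₀ (Finset.univ.image k))
  have h0 : Nonempty (j₀ ⟶ j) := hj (Finset.mem_insert_self _ _)
  have h1 : ∀ t, Nonempty (k t ⟶ j) := fun t =>
    hj (Finset.mem_insert_of_mem (Finset.mem_image_of_mem k (Finset.mem_univ t)))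
  refine ⟨j, h0.some, fun t => MvPolynomial.map (F.map (h1 t).some).hom (Q t), fun t => ?_⟩
  rw [MvPolynomial.map_map, ι_comp, hQ]

/-- The relations of a finite family are generated by relations which exist at a finite stage. -/
theorem exists_rel (hc : IsColimit c) [IsNoetherianRing c.pt] {m : Type} [Fintype m] (j₀ : J)
    (f : m → MvPolynomial (Fin n) (F.obj j₀)) :
    ∃ (j : J) (φ : j₀ ⟶ j) (k : ℕ) (s : Fin k → m → MvPolynomial (Fin n) (F.obj j)),
      Rel (fun i => MvPolynomial.map (F.map φ).hom (f i)) s ∧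
      Ex (fun i => MvPolynomial.map (c.ι.app j₀).hom (f i))
        (fun t i => MvPolynomial.map (c.ι.app j).hom (s t i)) := by
  classical
  let A := MvPolynomial (Fin n) c.pt
  let g : m → A := fun i => MvPolynomial.map (c.ι.app j₀).hom (f i)
  let ev : (m → A) →ₗ[A] A := Fintype.linearCombination A g
  have hev : ∀ a, ev a = ∑ i, a i * g i := fun a => by
    simp [ev, Fintype.linearCombination_apply]
  obtain ⟨T, hT⟩ : (LinearMap.ker ev).FG := IsNoetherian.noetherian _
  let k := T.card
  let S : Fin k → m → A := fun t => (T.equivFin.symm t : m → A)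
  have hS : Ex g S := by
    intro a ha
    have h1 : a ∈ LinearMap.ker ev := by
      rw [LinearMap.mem_ker, hev]; exact ha
    rw [← hT] at h1
    have h2 : (T : Set (m → A)) = Set.range S := by
      ext x
      constructor
      · intro hx
        exact ⟨T.equivFin ⟨x, hx⟩, by simp [S]⟩
      · rintro ⟨t, rfl⟩
        exact (T.equivFin.symm t).2
    rw [h2] at h1
    obtain ⟨d, hd⟩ := (Submodule.mem_span_range_iff_exists_fun A).mp h1
    refine ⟨d, fun i => ?_⟩
    rw [← hd]
    simp [Finset.sum_apply]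
  have hSrel : ∀ t, ∑ i, S t i * g i = 0 := by
    intro t
    rw [← hev]
    have h1 : S t ∈ LinearMap.ker ev := by
      rw [← hT]
      exact Submodule.subset_span (T.equivFin.symm t).2
    exact h1
  obtain ⟨j1, φ1, s1, hs1⟩ := exists_rep_poly_finite hc j₀ (fun t : Fin k × m => S t.1 t.2)
  obtain ⟨j2, φ2, h2⟩ := exists_zero_poly_finite hc j1
    (fun t : Fin k => ∑ i, s1 (t, i) * MvPolynomial.map (F.map φ1).hom (f i)) (by
      intro t
      rw [map_sum]
      simp only [map_mul, MvPolynomial.map_map, ι_comp, hs1]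
      exact hSrel t)
  refine ⟨j2, φ1 ≫ φ2, k, fun t i => MvPolynomial.map (F.map φ2).hom (s1 (t, i)), ?_, ?_⟩
  · intro t
    have := h2 t
    rw [map_sum] at this
    simpa only [map_mul, MvPolynomial.map_map, map_map_comp] using this
  · have h3 : (fun (t : Fin k) (i : m) => MvPolynomial.map (c.ι.app j2).hom
        (MvPolynomial.map (F.map φ2).hom (s1 (t, i)))) = S := by
      funext t i
      rw [MvPolynomial.map_map, ι_comp]
      exact hs1 (t, i)
    rw [h3]
    exact hS

end K119.ColimPoly
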