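import Groth.Agent.EtDl.K119.LeafStage
import Groth.Agent.EtDl.K119.ColimPoly
import Mathlib.RingTheory.TensorProduct.MvPolynomial
import Mathlib.Algebra.Category.Ring.Constructions

/-!
# Base change of presentations
-/

set_option autoImplicit false
universe u

open CategoryTheory CategoryTheory.Limits
open scoped TensorProduct

namespace K119.PresBC

attribute [local instance] MvPolynomial.algebraMvPolynomial

/-- Polynomial rings over smooth algebras. -/
theorem smooth_mv (n : ℕ) (B T : Type u) [CommRing B] [CommRing T] [Algebra B T] [Algebra.Smooth B T] :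
    Algebra.Smooth (MvPolynomial (Fin n) B) (MvPolynomial (Fin n) T) :=
  Algebra.Smooth.of_equiv (Algebra.IsPushout.equiv B (MvPolynomial (Fin n) B) T (MvPolynomial (Fin n) T))

/-- Polynomial rings over flat algebras. -/
theorem flat_mv (n : ℕ) (B T : Type u) [CommRing B] [CommRing T] [Algebra B T] [Module.Flat B T] :
    Module.Flat (MvPolynomial (Fin n) B) (MvPolynomial (Fin n) T) :=
  Module.Flat.of_linearEquiv
    (Algebra.IsPushout.equiv B (MvPolynomial (Fin n) B) T (MvPolynomial (Fin n) T)).symm.toLinearEquiv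

/-- The presentation of a pushout. -/
noncomputable def pres {R A' R' : Type u} [CommRing R] [CommRing A'] [CommRing R'] {n : ℕ}
    (x : Fin n → R) (f' : A' →+* R') (g' : R →+* R') : MvPolynomial (Fin n) A' →+* R' :=
  MvPolynomial.eval₂Hom f' (fun t => g' (x t))

section

variable {A R A' R' : CommRingCat.{u}} {f : A ⟶ R} {g : A ⟶ A'} {g' : R ⟶ R'} {f' : A' ⟶ R'}
  {n : ℕ} (e : MvPolynomial (Fin n) A →+* R) (heC : e.comp MvPolynomial.C = f.hom)

theorem pres_C (x : Fin n → R) (a : A') : pres x f'.hom g'.hom (MvPolynomial.C a) = f'.hom a :=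
  MvPolynomial.eval₂Hom_C _ _ _

theorem pres_X (x : Fin n → R) (t : Fin n) : pres x f'.hom g'.hom (MvPolynomial.X t) = g'.hom (x t) :=
  MvPolynomial.eval₂Hom_X' _ _ _

include heC

theorem pres_map (h : f ≫ g' = g ≫ f') (P : MvPolynomial (Fin n) A) :
    pres (fun t => e (MvPolynomial.X t)) f'.hom g'.hom (MvPolynomial.map g.hom P) = g'.hom (e P) := by
  have h1 : (pres (fun t => e (MvPolynomial.X t)) f'.hom g'.hom).comp (MvPolynomial.map g.hom) =
      g'.hom.comp e := by
    apply MvPolynomial.ringHom_ext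
    · intro a
      simp only [RingHom.comp_apply, MvPolynomial.map_C]
      rw [pres_C]
      have h2 : e (MvPolynomial.C a) = f.hom a := DFunLike.congr_fun heC a
      rw [h2]
      have h3 := congrArg (fun k => k.hom a) h
      exact h3.symm
    · intro t
      simp only [RingHom.comp_apply, MvPolynomial.map_X]
      rw [pres_X]
  exact DFunLike.congr_fun h1 P

theorem pres_surj_ker (h : IsPushout f g g' f') (he : Function.Surjective e) {m : Type}
    (F : m → MvPolynomial (Fin n) A) (hker : RingHom.ker e = Ideal.span (Set.range F)) :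
    Function.Surjective (pres (fun t => e (MvPolynomial.X t)) f'.hom g'.hom) ∧
      RingHom.ker (pres (fun t => e (MvPolynomial.X t)) f'.hom g'.hom) =
        Ideal.span (Set.range fun i => MvPolynomial.map g.hom (F i)) := by
  set e' := pres (fun t => e (MvPolynomial.X t)) f'.hom g'.hom with he'
  set K : Ideal (MvPolynomial (Fin n) A') := Ideal.span (Set.range fun i => MvPolynomial.map g.hom (F i)) with hK
  have hKe' : K ≤ RingHom.ker e' := by
    rw [hK, Ideal.span_le]
    rintro _ ⟨i, rfl⟩
    change e' _ = 0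
    rw [he', pres_map e heC h.w]
    have : F i ∈ RingHom.ker e := by
      rw [hker]
      exact Ideal.subset_span ⟨i, rfl⟩
    rw [RingHom.mem_ker] at this
    rw [this, map_zero]
  let Q := MvPolynomial (Fin n) A' ⧸ K
  let mk : MvPolynomial (Fin n) A' →+* Q := Ideal.Quotient.mk K
  have hlift : RingHom.ker e ≤ RingHom.ker (mk.comp (MvPolynomial.map g.hom)) := by
    rw [hker, Ideal.span_le]
    rintro _ ⟨i, rfl⟩
    change mk (MvPolynomial.map g.hom (F i)) = 0
    exact Ideal.Quotient.eq_zero_iff_mem.mpr (Ideal.subset_span ⟨i, rfl⟩)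
  let ρ : R →+* Q := RingHom.liftOfSurjective e he ⟨mk.comp (MvPolynomial.map g.hom), hlift⟩
  have hρ : ∀ P, ρ (e P) = mk (MvPolynomial.map g.hom P) := fun P =>
    RingHom.liftOfRightInverse_comp_apply e _ _ ⟨mk.comp (MvPolynomial.map g.hom), hlift⟩ P
  have hw : f ≫ CommRingCat.ofHom ρ = g ≫ CommRingCat.ofHom (mk.comp MvPolynomial.C) := by
    ext a
    change ρ (f.hom a) = mk (MvPolynomial.C (g.hom a))
    have h2 : e (MvPolynomial.C a) = f.hom a := DFunLike.congr_fun heC a
    rw [← h2, hρ, MvPolynomial.map_C]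
  let δ : R' ⟶ CommRingCat.of Q := h.desc (CommRingCat.ofHom ρ) (CommRingCat.ofHom (mk.comp MvPolynomial.C)) hw
  have hδ1 : ∀ r : R, δ.hom (g'.hom r) = ρ r := fun r => by
    have := h.inl_desc (CommRingCat.ofHom ρ) (CommRingCat.ofHom (mk.comp MvPolynomial.C)) hw
    exact congrArg (fun k => k.hom r) this
  have hδ2 : ∀ a : A', δ.hom (f'.hom a) = mk (MvPolynomial.C a) := fun a => by
    have := h.inr_desc (CommRingCat.ofHom ρ) (CommRingCat.ofHom (mk.comp MvPolynomial.C)) hw
    exact congrArg (fun k => k.hom a) this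
  have hδ : ∀ P, δ.hom (e' P) = mk P := by
    have h1 : δ.hom.comp e' = mk := by
      apply MvPolynomial.ringHom_ext
      · intro a
        rw [RingHom.comp_apply, he', pres_C, hδ2]
      · intro t
        rw [RingHom.comp_apply, he', pres_X, hδ1, hρ, MvPolynomial.map_X]
    exact fun P => DFunLike.congr_fun h1 P
  refine ⟨?_, le_antisymm ?_ hKe'⟩
  · -- surjectivity
    let ebar : CommRingCat.of Q ⟶ R' := CommRingCat.ofHom (Ideal.Quotient.lift K e' fun a ha => hKe' ha)
    have hebar : ∀ P, ebar.hom (mk P) = e' P := fun P => Ideal.Quotient.lift_mk _ _ _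
    have h1 : δ ≫ ebar = 𝟙 R' := by
      apply h.hom_ext
      · ext r
        obtain ⟨P, rfl⟩ := he r
        change ebar.hom (δ.hom (g'.hom (e P))) = g'.hom (e P)
        rw [hδ1, hρ, hebar, he', pres_map e heC h.w]
      · ext a
        change ebar.hom (δ.hom (f'.hom a)) = f'.hom a
        rw [hδ2, hebar, he', pres_C]
    intro y
    have h2 : ebar.hom (δ.hom y) = y := congrArg (fun k => k.hom y) h1
    obtain ⟨P, hP⟩ := Ideal.Quotient.mk_surjective (δ.hom y)
    refine ⟨P, ?_⟩
    rw [← h2, ← hebar]
    exact congrArg ebar.hom hP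
  · intro P hP
    rw [RingHom.mem_ker] at hP
    have : mk P = 0 := by rw [← hδ, hP, map_zero]
    exact Ideal.Quotient.eq_zero_iff_mem.mp this

end

end K119.PresBC
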