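import Groth.Agent.EtDl.K119.StageEv
import Groth.Agent.EtDl.K119.CertOpen
import Groth.Agent.EtDl.K119.PresBC
import Groth.Prelude.Def_EGA4b

/-!
# Leaves of a certificate at a large stage
-/

set_option autoImplicit false
universe u

open CategoryTheory CategoryTheory.Limits AlgebraicGeometry Opposite

namespace K119.LeafEv

open K556.CertDef K119.StageEv K119.SncLoc K119.LeafStage K119.PresBC K119.RelExact K119.ColimPoly

attribute [local instance] MvPolynomial.algebraMvPolynomial

/-- The prime ideal of a point and global sections. -/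
noncomputable def pt (X : Scheme.{u}) (x : X) : Ideal Γ(X, ⊤) := (X.toSpecΓ x).asIdeal

instance (X : Scheme.{u}) (x : X) : (pt X x).IsPrime := (X.toSpecΓ x).isPrime

theorem not_mem_pt {X : Scheme.{u}} (x : X) (g : Γ(X, ⊤)) : g ∉ pt X x ↔ x ∈ X.basicOpen g := by
  have h := Scheme.toSpecΓ_preimage_basicOpen X g
  have h2 : x ∈ X.toSpecΓ ⁻¹ᵁ (PrimeSpectrum.basicOpen g) ↔ x ∈ X.basicOpen g := by rw [h]
  exact h2

theorem pt_comap {X Y : Scheme.{u}} (f : X ⟶ Y) (x : X) : pt Y (f x) = (pt X x).comap f.appTop.hom := by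
  have h : f ≫ Y.toSpecΓ = X.toSpecΓ ≫ Spec.map f.appTop := Scheme.toSpecΓ_naturality f
  have h2 : Y.toSpecΓ (f x) = Spec.map f.appTop (X.toSpecΓ x) := by
    rw [← Scheme.Hom.comp_apply, h, Scheme.Hom.comp_apply]
  exact congrArg PrimeSpectrum.asIdeal h2

/-- The structure map on global sections of a scheme over `Spec B`. -/
noncomputable def str {B : Type u} [CommRing B] {X : Scheme.{u}} (β : X ⟶ Spec (CommRingCat.of B)) :
    B →+* Γ(X, ⊤) :=
  β.appTop.hom.comp ((Scheme.ΓSpecIso (CommRingCat.of B)).symm.commRingCatIsoToRingEquiv : B →+* _)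

theorem str_comp {B : Type u} [CommRing B] {X Y : Scheme.{u}} (β : Y ⟶ Spec (CommRingCat.of B)) (f : X ⟶ Y) :
    str (f ≫ β) = f.appTop.hom.comp (str β) := by
  ext x
  simp only [str, RingHom.comp_apply, Scheme.Hom.comp_appTop, CommRingCat.hom_comp]

theorem smooth_str {B : Type u} [CommRing B] {X : Scheme.{u}} [IsAffine X] (β : X ⟶ Spec (CommRingCat.of B))
    [Smooth β] : (str β).Smooth := by
  have h : β.appTop.hom.Smooth := (HasRingHomProperty.iff_of_isAffine (P := @Smooth)).mp inferInstance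
  exact RingHom.Smooth.respectsIso.2 _ (Scheme.ΓSpecIso (CommRingCat.of B)).symm.commRingCatIsoToRingEquiv h

theorem flat_str {B : Type u} [CommRing B] {X : Scheme.{u}} [IsAffine X] (β : X ⟶ Spec (CommRingCat.of B))
    [Flat β] : (str β).Flat := by
  have h : β.appTop.hom.Flat := (HasRingHomProperty.iff_of_isAffine (P := @Flat)).mp inferInstance
  exact RingHom.Flat.respectsIso.2 _ (Scheme.ΓSpecIso (CommRingCat.of B)).symm.commRingCatIsoToRingEquiv h

theorem finiteType_str {B : Type u} [CommRing B] {X : Scheme.{u}} [IsAffine X]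
    (β : X ⟶ Spec (CommRingCat.of B)) [LocallyOfFiniteType β] : (str β).FiniteType := by
  have h : β.appTop.hom.FiniteType := (HasRingHomProperty.iff_of_isAffine (P := @LocallyOfFiniteType)).mp
    inferInstance
  exact RingHom.finiteType_respectsIso.2 _ (Scheme.ΓSpecIso (CommRingCat.of B)).symm.commRingCatIsoToRingEquiv h

theorem noeth_top (X : Scheme.{u}) [IsAffine X] [IsLocallyNoetherian X] : IsNoetherianRing Γ(X, ⊤) :=
  IsLocallyNoetherian.component_noetherian ⟨⊤, isAffineOpen_top X⟩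

variable {I : Type u} [SmallCategory I] [IsCofiltered I] (D : I ⥤ Scheme.{u}) (c : Cone D)
  [∀ (i j : I) (f : i ⟶ j), IsAffineHom (D.map f)] [∀ i, IsAffine (D.obj i)] [∀ i, IsNoetherian (D.obj i)]
  [IsAffine c.pt] [IsNoetherian c.pt] (hc : IsLimit c)
  {B : Type u} [CommRing B] (hJ : EGA4.IsJ2 B) (β : ∀ i, D.obj i ⟶ Spec (CommRingCat.of B))
  [∀ i, Smooth (β i)] (hfl : ∀ i, Flat (c.π.app i ≫ β i))

include hc hJ hfl

/-- Strict normal crossings at the image points for large stages. -/
theorem ev_snc {i₀ : I} {X₀ X : Scheme.{u}} {p₀ : X₀ ⟶ D.obj i₀} [LocallyOfFinitePresentation p₀]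
    [IsAffine X₀] {a : X ⟶ X₀} {b : X ⟶ c.pt} (hX : IsPullback a b p₀ (c.π.app i₀)) {ι : Type} [Finite ι]
    (z₀ : ι → Γ(X₀, ⊤)) (hz : SNC Γ(X, ⊤) (fun k => a.appTop.hom (z₀ k))) :
    Ev D c p₀ a b (fun Xi ai u => ∀ x : X, ∃ g : Γ(Xi, ⊤), u x ∈ Xi.basicOpen g ∧
      SNC (Localization.Away g) (fun k => algebraMap _ _ (ai.appTop.hom (z₀ k)))) := by
  classical
  have hcA : ∀ i, IsAffine (((Functor.const I).obj c.pt).obj i) := fun i => inferInstanceAs (IsAffine c.pt)
  have : Fintype ι := Fintype.ofFinite ι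
  have hFP : p₀.appTop.hom.FinitePresentation :=
    (HasRingHomProperty.iff_of_isAffine (P := @LocallyOfFinitePresentation)).mp inferInstance
  obtain ⟨n, e, heC, he, m, f, hker⟩ : ∃ (n : ℕ) (e : MvPolynomial (Fin n) Γ(D.obj i₀, ⊤) →+* Γ(X₀, ⊤)),
      e.comp MvPolynomial.C = p₀.appTop.hom ∧ Function.Surjective e ∧ ∃ (m : ℕ)
        (f : Fin m → MvPolynomial (Fin n) Γ(D.obj i₀, ⊤)), RingHom.ker e = Ideal.span (Set.range f) := by
    let _ : Algebra Γ(D.obj i₀, ⊤) Γ(X₀, ⊤) := p₀.appTop.hom.toAlgebra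
    have : Algebra.FinitePresentation Γ(D.obj i₀, ⊤) Γ(X₀, ⊤) := hFP
    obtain ⟨n, e, he, T, hT⟩ := Algebra.FinitePresentation.out (R := Γ(D.obj i₀, ⊤)) (A := Γ(X₀, ⊤))
    refine ⟨n, e, ?_, he, T.card, fun t => (T.equivFin.symm t : _), ?_⟩
    · ext x
      exact e.commutes x
    · have h1 : (Set.range fun t => ((T.equivFin.symm t : T) : MvPolynomial (Fin n) Γ(D.obj i₀, ⊤))) = T := by
        ext x
        constructor
        · rintro ⟨t, rfl⟩
          exact (T.equivFin.symm t).2
        · intro hx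
          exact ⟨T.equivFin ⟨x, hx⟩, by simp⟩
      rw [h1]
      exact hT.symm
  choose zt hzt using fun k => he (z₀ k)
  let F := D.op ⋙ Scheme.Γ
  let cc : Cocone F := Scheme.Γ.mapCocone c.op
  obtain ⟨hcc⟩ := nonempty_isColimit_Γ_mapCocone D c hc
  have hNc : IsNoetherianRing cc.pt := noeth_top c.pt
  have hrel := fun J : Set ι => exists_rel (n := n) (c := cc) hcc (op i₀) (fam f zt J)
  choose jJ φJ kJ sJ hR hE using hrel
  obtain ⟨i₁, φ₁, gJ, hg⟩ := IsCofiltered.wideCospan (i := i₀) (j := fun J => (jJ J).unop)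
    (fun J => (φJ J).unop)
  refine ⟨i₁, φ₁, fun i φ Xi ai pi u hpb h2 h3 x => ?_⟩
  have hai : IsAffineHom ai := MorphismProperty.of_isPullback (P := @IsAffineHom) hpb.flip inferInstance
  have hXi : IsAffine Xi := isAffine_of_isAffineHom ai
  have push1 : IsPushout p₀.appTop (D.map (φ ≫ φ₁)).appTop ai.appTop pi.appTop :=
    isPushout_appTop_of_isPullback hpb
  have push2 : IsPushout p₀.appTop (c.π.app i₀).appTop a.appTop b.appTop :=
    isPushout_appTop_of_isPullback hX
  -- rings
  let A := Γ(D.obj i, ⊤)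
  let O := Γ(c.pt, ⊤)
  let σ₀ : A →+* O := (c.π.app i).appTop.hom
  let δ : Γ(D.obj i₀, ⊤) →+* A := (D.map (φ ≫ φ₁)).appTop.hom
  have hσδ : σ₀.comp δ = (c.π.app i₀).appTop.hom := by
    have h4 := c.w (φ ≫ φ₁)
    have h5 : (c.π.app i ≫ D.map (φ ≫ φ₁)).appTop = (c.π.app i₀).appTop := by rw [h4]
    rw [Scheme.Hom.comp_appTop] at h5
    exact congrArg CommRingCat.Hom.hom h5
  let ei := pres (fun t => e (MvPolynomial.X t)) pi.appTop.hom ai.appTop.hom
  let e' := pres (fun t => e (MvPolynomial.X t)) b.appTop.hom a.appTop.hom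
  obtain ⟨hei, hkeri⟩ := pres_surj_ker e heC push1 he f hker
  obtain ⟨he', hker'⟩ := pres_surj_ker e heC push2 he f hker
  have heimap : ∀ P, ei (MvPolynomial.map δ P) = ai.appTop.hom (e P) := fun P =>
    pres_map e heC push1.w P
  have he'map : ∀ P, e' (MvPolynomial.map (c.π.app i₀).appTop.hom P) = a.appTop.hom (e P) := fun P =>
    pres_map e heC push2.w P
  let _ : Algebra B A := (str (β i)).toAlgebra
  let _ : Algebra B O := (σ₀.comp (str (β i))).toAlgebra
  have hsmA : Algebra.Smooth B A := smooth_str (β i)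
  have hflO : Module.Flat B O := by
    have h4 : Flat (c.π.app i ≫ β i) := hfl i
    have h5 := flat_str (c.π.app i ≫ β i)
    rw [str_comp] at h5
    exact h5
  have hsm1 := smooth_mv n B A
  have hfl1 := flat_mv n B O
  have hNA : IsNoetherianRing A := noeth_top (D.obj i)
  have hNO : IsNoetherianRing O := noeth_top c.pt
  let σ : MvPolynomial (Fin n) A →ₐ[MvPolynomial (Fin n) B] MvPolynomial (Fin n) O :=
    { MvPolynomial.map σ₀ with
      commutes' := fun r => by
        change MvPolynomial.map σ₀ (MvPolynomial.map (algebraMap B A) r) = MvPolynomial.map (algebraMap B O) r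
        rw [MvPolynomial.map_map]
        rfl }
  have hσ : ∀ P, σ P = MvPolynomial.map σ₀ P := fun _ => rfl
  have hσδ' : ∀ P, σ (MvPolynomial.map δ P) = MvPolynomial.map (c.π.app i₀).appTop.hom P := by
    intro P
    rw [hσ, MvPolynomial.map_map, hσδ]
  let ψ : Γ(Xi, ⊤) →+* Γ(X, ⊤) := u.appTop.hom
  have hψ : ∀ P, ψ (ei P) = e' (σ P) := by
    have h4 : ψ.comp ei = e'.comp (σ : MvPolynomial (Fin n) A →+* MvPolynomial (Fin n) O) := by
      apply MvPolynomial.ringHom_ext
      · intro r
        change ψ (ei (MvPolynomial.C r)) = e' (MvPolynomial.map σ₀ (MvPolynomial.C r))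
        rw [MvPolynomial.map_C]
        change ψ (pres _ pi.appTop.hom ai.appTop.hom (MvPolynomial.C r)) =
          pres _ b.appTop.hom a.appTop.hom (MvPolynomial.C (σ₀ r))
        rw [pres_C, pres_C]
        have h5 : (u ≫ pi).appTop = (b ≫ c.π.app i).appTop := by rw [h3]
        rw [Scheme.Hom.comp_appTop, Scheme.Hom.comp_appTop] at h5
        exact congrArg (fun k => k.hom r) h5
      · intro t
        change ψ (ei (MvPolynomial.X t)) = e' (MvPolynomial.map σ₀ (MvPolynomial.X t))
        rw [MvPolynomial.map_X]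
        change ψ (pres _ pi.appTop.hom ai.appTop.hom (MvPolynomial.X t)) =
          pres _ b.appTop.hom a.appTop.hom (MvPolynomial.X t)
        rw [pres_X, pres_X]
        have h5 : (u ≫ ai).appTop = a.appTop := by rw [h2]
        rw [Scheme.Hom.comp_appTop] at h5
        exact congrArg (fun k => k.hom (e (MvPolynomial.X t))) h5
    exact fun P => DFunLike.congr_fun h4 P
  -- relations
  have hrel : ∀ J : Set ι, ∃ (k : ℕ) (s : Fin k → Fin m ⊕ ι → MvPolynomial (Fin n) A),
      Rel (fam (fun l => MvPolynomial.map δ (f l)) (fun k => MvPolynomial.map δ (zt k)) J) s ∧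
      Ex (fun l => σ (fam (fun l => MvPolynomial.map δ (f l)) (fun k => MvPolynomial.map δ (zt k)) J l))
        (fun t l => σ (s t l)) := by
    intro J
    let ε : Γ(D.obj (jJ J).unop, ⊤) →+* A := (D.map (φ ≫ gJ J)).appTop.hom
    have hε : ε.comp (F.map (φJ J)).hom = δ := by
      have h4 : (D.map (φ ≫ gJ J) ≫ D.map (φJ J).unop).appTop = (D.map (φ ≫ φ₁)).appTop := by
        rw [← D.map_comp, Category.assoc, hg J]
      rw [Scheme.Hom.comp_appTop] at h4
      exact congrArg CommRingCat.Hom.hom h4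
    have hε2 : σ₀.comp ε = (cc.ι.app (jJ J)).hom := by
      have h4 : (c.π.app i ≫ D.map (φ ≫ gJ J)).appTop = (c.π.app (jJ J).unop).appTop := by rw [c.w]
      rw [Scheme.Hom.comp_appTop] at h4
      exact congrArg CommRingCat.Hom.hom h4
    have hfam : fam (fun l => MvPolynomial.map δ (f l)) (fun k => MvPolynomial.map δ (zt k)) J =
        fun l => MvPolynomial.map ε (MvPolynomial.map (F.map (φJ J)).hom (fam f zt J l)) := by
      rw [← map_fam]
      funext l
      have h6 := MvPolynomial.map_map (σ := Fin n) (F.map (φJ J)).hom ε (fam f zt J l)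
      have h7 := congrArg (fun r : Γ(D.obj i₀, ⊤) →+* A => MvPolynomial.map (σ := Fin n) r (fam f zt J l)) hε
      exact (h6.trans h7).symm
    refine ⟨kJ J, fun t l => MvPolynomial.map ε (sJ J t l), ?_, ?_⟩
    · rw [hfam]
      exact (hR J).map (MvPolynomial.map ε)
    · have h4 : (fun l => σ (fam (fun l => MvPolynomial.map δ (f l)) (fun k => MvPolynomial.map δ (zt k)) J l)) =
          fun l => MvPolynomial.map (cc.ι.app (op i₀)).hom (fam f zt J l) := by
        rw [← map_fam]
        funext l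
        exact hσδ' _
      have h5 : (fun (t : Fin (kJ J)) (l : Fin m ⊕ ι) => σ (MvPolynomial.map ε (sJ J t l))) =
          fun t l => MvPolynomial.map (cc.ι.app (jJ J)).hom (sJ J t l) := by
        funext t l
        have h6 := MvPolynomial.map_map (σ := Fin n) ε σ₀ (sJ J t l)
        have h7 := congrArg (fun r : Γ(D.obj (jJ J).unop, ⊤) →+* O => MvPolynomial.map (σ := Fin n) r (sJ J t l)) hε2
        exact h6.trans h7
      rw [h4, h5]
      exact hE J
  have hzi : ∀ k, ei (MvPolynomial.map δ (zt k)) = ai.appTop.hom (z₀ k) := fun k => by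
    rw [heimap, hzt]
  have hz' : SNC Γ(X, ⊤) (fun k => e' (σ (MvPolynomial.map δ (zt k)))) := by
    have : (fun k => e' (σ (MvPolynomial.map δ (zt k)))) = fun k => a.appTop.hom (z₀ k) := by
      funext k
      rw [hσδ', he'map, hzt]
    rw [this]
    exact hz
  have hker'' : RingHom.ker e' = Ideal.span (Set.range fun l => σ (MvPolynomial.map δ (f l))) := by
    have : (fun l => σ (MvPolynomial.map δ (f l))) = fun l => MvPolynomial.map (c.π.app i₀).appTop.hom (f l) := by
      funext l
      exact hσδ' _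
    rw [this]
    exact hker'
  have hsnc := stage_snc σ ei hei e' he' ψ hψ (fun l => MvPolynomial.map δ (f l)) hkeri hker''
    (fun k => MvPolynomial.map δ (zt k)) hrel hz' (pt X x) (pt Xi (u x)) (pt_comap u x)
  have hsnc' : SNC (Localization.AtPrime (pt Xi (u x))) (fun k => algebraMap _ _ (ai.appTop.hom (z₀ k))) := by
    have : (fun k => algebraMap Γ(Xi, ⊤) (Localization.AtPrime (pt Xi (u x))) (ai.appTop.hom (z₀ k))) =
        fun k => algebraMap _ _ (ei (MvPolynomial.map δ (zt k))) := by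
      funext k
      rw [hzi]
    rw [this]
    exact hsnc
  -- openness
  have hLFT : LocallyOfFiniteType pi := MorphismProperty.of_isPullback (P := @LocallyOfFiniteType) hpb
    inferInstance
  have hRN : IsNoetherianRing Γ(Xi, ⊤) := by
    have : IsLocallyNoetherian Xi := LocallyOfFiniteType.isLocallyNoetherian pi
    exact noeth_top Xi
  have hop : ∀ J : Set ι, IsOpen (EGA4.regLocus (Γ(Xi, ⊤) ⧸ Ideal.span ((fun k => ai.appTop.hom (z₀ k)) '' J))) := by
    intro J
    have h4 : LocallyOfFiniteType (pi ≫ β i) := inferInstance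
    have h5 : (str (pi ≫ β i)).FiniteType := finiteType_str _
    let _ : Algebra B Γ(Xi, ⊤) := (str (pi ≫ β i)).toAlgebra
    have h6 : Algebra.FiniteType B Γ(Xi, ⊤) := h5
    exact hJ _ (Algebra.FiniteType.of_surjective (Ideal.Quotient.mkₐ B _) Ideal.Quotient.mk_surjective)
  obtain ⟨g, hg1, hg2⟩ := exists_snc_away (fun k => ai.appTop.hom (z₀ k)) hop (pt Xi (u x)) hsnc'
  exact ⟨g, (not_mem_pt _ _).mp hg1, hg2⟩

end K119.LeafEv
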