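import Groth.Agent.EtDl.K556.CertDef
import Groth.Agent.S5807
import Groth.Agent.Ega4late.H544.Dim
import Groth.Agent.Ega4B.RkLift

/-!
# Strict normal crossings and localization

* `snc_localization` : `SNC` passes to localizations;
* `snc_local` : a criterion for local rings;
* `exists_snc_away` : if the localization at `p` is `SNC` and the regular loci of the quotients `R ⧸ (z_J)` are
  open then `SNC` holds on a basic open neighbourhood of `p`.
-/

set_option autoImplicit false
universe u

open IsLocalRing

namespace K119.SncLoc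

open K556.CertDef

variable {ι : Type}

theorem map_sp {R L : Type*} [CommRing R] [CommRing L] (φ : R →+* L) (z : ι → R) (J : Set ι) :
    (Ideal.span (z '' J)).map φ = Ideal.span ((fun i => φ (z i)) '' J) := by
  rw [Ideal.map_span, Set.image_image]

theorem isRegularRing_of_subsingleton (R : Type u) [CommRing R] [Subsingleton R] : IsRegularRing R := by
  refine isRegularRing_iff.mpr fun p hp => ?_
  exact absurd (Subsingleton.elim p ⊤) hp.ne_top

/-- `SNC` passes to localizations. -/
theorem snc_localization {R L : Type u} [CommRing R] [CommRing L] [Algebra R L] (M : Submonoid R)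
    [IsLocalization M L] {z : ι → R} (h : SNC R z) : SNC L (fun i => algebraMap R L (z i)) := by
  constructor
  · intro J
    rw [← map_sp (algebraMap R L) z J]
    have := h.reg J
    exact Groth.Agent.S5807.isRegularRing_of_isLocalization (R ⧸ Ideal.span (z '' J)) _
      (Algebra.algebraMapSubmonoid (R ⧸ Ideal.span (z '' J)) M)
  · intro J i hi a ha
    rw [← map_sp (algebraMap R L) z J] at ha ⊢
    obtain ⟨x, u, rfl⟩ := IsLocalization.exists_mk'_eq M a
    rw [IsLocalization.mk'_mem_map_algebraMap_iff]
    rw [← IsLocalization.mk'_one (M := M) L (z i), ← IsLocalization.mk'_mul,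
      IsLocalization.mk'_mem_map_algebraMap_iff] at ha
    obtain ⟨s, hs, hsx⟩ := ha
    refine ⟨s, hs, h.inj J i hi _ ?_⟩
    have : z i * (s * x) = s * (z i * x) := by ring
    rw [this]
    exact hsx

/-- `SNC` is invariant under isomorphisms. -/
theorem snc_of_equiv {R L : Type u} [CommRing R] [CommRing L] (e : R ≃+* L) {z : ι → R} (h : SNC R z) :
    SNC L (fun i => e (z i)) := by
  let _ : Algebra R L := e.toRingHom.toAlgebra
  have h0 : IsLocalization (⊥ : Submonoid R) R := IsLocalization.self bot_le
  have : IsLocalization (⊥ : Submonoid R) L :=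
    IsLocalization.isLocalization_of_algEquiv (R := R) ⊥ (AlgEquiv.ofRingEquiv (f := e) fun _ => rfl)
  exact snc_localization (L := L) (⊥ : Submonoid R) h

theorem snc_of_equiv' {R L : Type u} [CommRing R] [CommRing L] (e : R ≃+* L) {z : ι → R} {w : ι → L}
    (hw : ∀ i, e (z i) = w i) (h : SNC R z) : SNC L w := by
  have := snc_of_equiv e h
  have h2 : (fun i => e (z i)) = w := funext hw
  rwa [h2] at this

theorem span_eq_top_of_not_mem {R : Type u} [CommRing R] [IsLocalRing R] (z : ι → R) (J : Set ι)
    (h : ¬ ∀ i ∈ J, z i ∈ maximalIdeal R) : Ideal.span (z '' J) = ⊤ := by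
  push Not at h
  obtain ⟨i, hi, hz⟩ := h
  exact Ideal.eq_top_of_isUnit_mem _ (Ideal.subset_span ⟨i, hi, rfl⟩)
    (by simpa using hz)

/-- A criterion for local rings. -/
theorem snc_local {R : Type u} [CommRing R] [IsLocalRing R] {z : ι → R}
    (h : ∀ J : Set ι, (∀ i ∈ J, z i ∈ maximalIdeal R) → IsRegularLocalRing (R ⧸ Ideal.span (z '' J)))
    (h2 : ∀ J : Set ι, (∀ i ∈ J, z i ∈ maximalIdeal R) → ∀ i, i ∉ J → z i ∉ Ideal.span (z '' J)) :
    SNC R z := by
  constructor
  · intro J
    by_cases hJ : ∀ i ∈ J, z i ∈ maximalIdeal R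
    · have := h J hJ
      exact Groth.Agent.Ega4late.H544.Dim.isRegularRing_of_isRegularLocalRing _
    · have h3 := span_eq_top_of_not_mem z J hJ
      have : Subsingleton (R ⧸ Ideal.span (z '' J)) := Ideal.Quotient.subsingleton_iff.mpr h3
      exact isRegularRing_of_subsingleton _
  · intro J i hi a ha
    by_cases hJ : ∀ i ∈ J, z i ∈ maximalIdeal R
    · have := h J hJ
      have : IsDomain (R ⧸ Ideal.span (z '' J)) := Groth.Agent.S0558.result _
      have hp : (Ideal.span (z '' J)).IsPrime := (Ideal.Quotient.isDomain_iff_prime _).mp this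
      exact (hp.mem_or_mem ha).resolve_left (h2 J hJ i hi)
    · rw [span_eq_top_of_not_mem z J hJ]
      exact trivial

/-- The components through a point of an `SNC` ring are distinct. -/
theorem not_mem_span {R : Type u} [CommRing R] {z : ι → R} (h : SNC R z) (q : Ideal R) [q.IsPrime] (J : Set ι)
    (hJ : ∀ i ∈ J, z i ∈ q) (i : ι) (hi : i ∉ J) (L : Type u) [CommRing L] [Algebra R L]
    [IsLocalization.AtPrime L q] : algebraMap R L (z i) ∉ Ideal.span ((fun i => algebraMap R L (z i)) '' J) := by
  intro hz
  have h1 : SNC L (fun i => algebraMap R L (z i)) := snc_localization q.primeCompl h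
  have h2 := h1.inj J i hi 1 (by simpa using hz)
  rw [← map_sp (algebraMap R L) z J] at h2
  have h3 : IsLocalization.AtPrime L q := inferInstance
  have h5 : ((Ideal.span (z '' J)).map (algebraMap R L)) = ⊤ := (Ideal.eq_top_iff_one _).mpr h2
  have h6 := (IsLocalization.map_algebraMap_ne_top_iff_disjoint q.primeCompl L (Ideal.span (z '' J))).mpr (by
    rw [Set.disjoint_left]
    intro x hx hx2
    have : Ideal.span (z '' J) ≤ q := by
      rw [Ideal.span_le]
      rintro _ ⟨j, hj, rfl⟩
      exact hJ j hj
    exact hx (this hx2))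
  exact h6 h5

/-- `SNC` spreads out from a point to a basic open neighbourhood. -/
theorem exists_snc_away {R : Type u} [CommRing R] [IsNoetherianRing R] [Finite ι] (z : ι → R)
    (hop : ∀ J : Set ι, IsOpen (EGA4.regLocus (R ⧸ Ideal.span (z '' J)))) (p : Ideal R) [hp : p.IsPrime]
    (h : SNC (Localization.AtPrime p) (fun i => algebraMap R _ (z i))) :
    ∃ g : R, g ∉ p ∧ SNC (Localization.Away g) (fun i => algebraMap R _ (z i)) := by
  classical
  -- regularity
  have h1 : ∀ J : Set ι, ∃ g : R, g ∉ p ∧
      IsRegularRing (Localization.Away (Ideal.Quotient.mk (Ideal.span (z '' J)) g)) := by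
    intro J
    set I := Ideal.span (z '' J) with hI
    by_cases hIp : I ≤ p
    · have hP : (p.map (Ideal.Quotient.mk I)).IsPrime :=
        Ideal.map_isPrime_of_surjective Ideal.Quotient.mk_surjective (by rw [Ideal.mk_ker]; exact hIp)
      have hPc : (p.map (Ideal.Quotient.mk I)).comap (Ideal.Quotient.mk I) = p := by
        rw [Ideal.comap_map_of_surjective' _ Ideal.Quotient.mk_surjective, Ideal.mk_ker, sup_eq_left]
        exact hIp
      have hloc := Groth.Agent.Ega4B.RkLift.isLocalization_quotient I p (p.map (Ideal.Quotient.mk I)) hPc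
      have hreg : IsRegularRing (Localization.AtPrime p ⧸ I.map (algebraMap R (Localization.AtPrime p))) := by
        rw [hI, map_sp]
        exact h.reg J
      have hreg2 : IsRegularRing (Localization.AtPrime (p.map (Ideal.Quotient.mk I))) :=
        IsRegularRing.of_ringEquiv (IsLocalization.algEquiv (p.map (Ideal.Quotient.mk I)).primeCompl
          (Localization.AtPrime p ⧸ I.map (algebraMap R (Localization.AtPrime p)))
          (Localization.AtPrime (p.map (Ideal.Quotient.mk I)))).toRingEquiv
      have hreg3 : IsRegularLocalRing (Localization.AtPrime (p.map (Ideal.Quotient.mk I))) :=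
        IsRegularLocalRing.of_isRegularRing_of_isLocalRing _
      have hmem : (⟨p.map (Ideal.Quotient.mk I), hP⟩ : PrimeSpectrum (R ⧸ I)) ∈ EGA4.regLocus (R ⧸ I) := hreg3
      obtain ⟨_, ⟨g', rfl⟩, hg1, hg2⟩ :=
        PrimeSpectrum.isTopologicalBasis_basic_opens.exists_subset_of_mem_open hmem (hop J)
      obtain ⟨g, rfl⟩ := Ideal.Quotient.mk_surjective g'
      refine ⟨g, fun hgp => hg1 (Ideal.mem_map_of_mem _ hgp), ?_⟩
      have : IsNoetherianRing (Localization.Away (Ideal.Quotient.mk I g)) :=
        IsLocalization.isNoetherianRing (Submonoid.powers (Ideal.Quotient.mk I g)) _ inferInstance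
      refine isRegularRing_iff.mpr fun q hq => ?_
      let q' : Ideal (R ⧸ I) := q.under (R ⧸ I)
      have hq' : q'.IsPrime := inferInstance
      have : IsLocalization.AtPrime (Localization.AtPrime q) q' :=
        IsLocalization.isLocalization_isLocalization_atPrime_isLocalization
          (Submonoid.powers (Ideal.Quotient.mk I g)) (Localization.AtPrime q) q
      have hgq : (⟨q', hq'⟩ : PrimeSpectrum (R ⧸ I)) ∈ EGA4.regLocus (R ⧸ I) := by
        refine hg2 fun hmem => ?_
        have h5 : algebraMap (R ⧸ I) (Localization.Away (Ideal.Quotient.mk I g)) (Ideal.Quotient.mk I g) ∈ q := hmem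
        exact hq.ne_top (Ideal.eq_top_of_isUnit_mem _ h5
          (IsLocalization.Away.algebraMap_isUnit (Ideal.Quotient.mk I g)))
      have h6 : IsRegularLocalRing (Localization.AtPrime q') := hgq
      exact IsRegularLocalRing.of_ringEquiv (IsLocalization.algEquiv q'.primeCompl
        (Localization.AtPrime q') (Localization.AtPrime q)).toRingEquiv
    · obtain ⟨g, hgI, hgp⟩ := SetLike.not_le_iff_exists.mp hIp
      refine ⟨g, hgp, ?_⟩
      have h2 : Ideal.Quotient.mk I g = 0 := Ideal.Quotient.eq_zero_iff_mem.mpr hgI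
      have : Subsingleton (Localization.Away (Ideal.Quotient.mk I g)) := by
        rw [h2]
        exact IsLocalization.subsingleton (M := Submonoid.powers (0 : R ⧸ I)) (Submonoid.mem_powers 0)
      exact isRegularRing_of_subsingleton _
  -- nonzerodivisors
  have h2 : ∀ (J : Set ι) (i : ι), ∃ g : R, g ∉ p ∧ (i ∉ J → ∀ a : R, z i * a ∈ Ideal.span (z '' J) →
      g * a ∈ Ideal.span (z '' J)) := by
    intro J i
    by_cases hi : i ∈ J
    · exact ⟨1, fun h1 => hp.ne_top ((Ideal.eq_top_iff_one _).mpr h1), fun h => absurd hi h⟩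
    let K : Ideal R := Submodule.comap (LinearMap.mulLeft R (z i)) (Ideal.span (z '' J))
    have hK : ∀ a, a ∈ K ↔ z i * a ∈ Ideal.span (z '' J) := fun a => Iff.rfl
    obtain ⟨T, hT⟩ : K.FG := IsNoetherian.noetherian K
    have h3 : ∀ a ∈ K, ∃ g : R, g ∉ p ∧ g * a ∈ Ideal.span (z '' J) := by
      intro a ha
      have h4 : algebraMap R (Localization.AtPrime p) a ∈
          (Ideal.span (z '' J)).map (algebraMap R (Localization.AtPrime p)) := by
        rw [map_sp]
        refine h.inj J i hi _ ?_
        rw [← map_mul, ← map_sp]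
        exact Ideal.mem_map_of_mem _ ha
      rw [← IsLocalization.mk'_one (M := p.primeCompl), IsLocalization.mk'_mem_map_algebraMap_iff] at h4
      obtain ⟨s, hs, hsa⟩ := h4
      exact ⟨s, hs, hsa⟩
    choose! G hG1 hG2 using h3
    have hTK : ∀ a ∈ T, a ∈ K := fun a ha => by
      rw [← hT]; exact Ideal.subset_span ha
    refine ⟨∏ a ∈ T, G a, ?_, fun _ a ha => ?_⟩
    · exact (inferInstance : p.IsPrime).prod_mem_iff.not.mpr (by
        rintro ⟨a, ha, hGa⟩
        exact hG1 a (hTK a ha) hGa)
    · have h5 : a ∈ K := ha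
      rw [← hT] at h5
      have h6 : Ideal.span (T : Set R) ≤
          Submodule.comap (LinearMap.mulLeft R (∏ a ∈ T, G a)) (Ideal.span (z '' J)) := by
        rw [Ideal.span_le]
        intro b hb
        change (∏ a ∈ T, G a) * b ∈ Ideal.span (z '' J)
        rw [← Finset.mul_prod_erase T G hb, mul_comm (G b), mul_assoc]
        exact Ideal.mul_mem_left _ _ (hG2 b (hTK b hb))
      exact h6 h5
  choose g1 hg1 hg1' using h1
  choose g2 hg2 hg2' using h2
  have : Fintype ι := Fintype.ofFinite ι
  have : Fintype (Set ι) := Fintype.ofFinite _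
  let g : R := (∏ J : Set ι, g1 J) * ∏ J : Set ι, ∏ i : ι, g2 J i
  refine ⟨g, ?_, ?_, ?_⟩
  · intro hg
    rcases hp.mem_or_mem hg with hg | hg
    · obtain ⟨J, -, hJ⟩ := hp.prod_mem_iff.mp hg
      exact hg1 J hJ
    · obtain ⟨J, -, hJ⟩ := hp.prod_mem_iff.mp hg
      obtain ⟨i, -, hi⟩ := hp.prod_mem_iff.mp hJ
      exact hg2 J i hi
  · intro J
    rw [← map_sp]
    have hdvd : g1 J ∣ g := Dvd.dvd.mul_right (Finset.dvd_prod_of_mem g1 (Finset.mem_univ J)) _
    obtain ⟨c, hc⟩ := hdvd
    set I := Ideal.span (z '' J) with hI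
    -- `R_g / I` is a localization of `(R / I)_{g1}`
    have := hg1' J
    let A := Localization.Away (Ideal.Quotient.mk I (g1 J))
    let E := Localization.Away g ⧸ I.map (algebraMap R (Localization.Away g))
    have hE : IsLocalization (Algebra.algebraMapSubmonoid (R ⧸ I) (Submonoid.powers g)) E := inferInstance
    have hgE : IsUnit (algebraMap (R ⧸ I) E (Ideal.Quotient.mk I g)) :=
      IsLocalization.map_units E (⟨_, g, Submonoid.mem_powers g, rfl⟩ :
        Algebra.algebraMapSubmonoid (R ⧸ I) (Submonoid.powers g))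
    have hu : IsUnit (algebraMap (R ⧸ I) E (Ideal.Quotient.mk I (g1 J))) := by
      have hc' : algebraMap (R ⧸ I) E (Ideal.Quotient.mk I g) =
          algebraMap (R ⧸ I) E (Ideal.Quotient.mk I (g1 J)) * algebraMap (R ⧸ I) E (Ideal.Quotient.mk I c) := by
        rw [← map_mul, ← map_mul, ← hc]
      rw [hc'] at hgE
      exact isUnit_of_mul_isUnit_left hgE
    let φ : A →+* E := IsLocalization.Away.lift (Ideal.Quotient.mk I (g1 J)) hu
    have hφ : ∀ x, φ (algebraMap _ A x) = algebraMap (R ⧸ I) E x := fun x =>
      IsLocalization.Away.lift_eq _ hu x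
    let _ : Algebra A E := φ.toAlgebra
    have : IsScalarTower (R ⧸ I) A E := IsScalarTower.of_algebraMap_eq (R := R ⧸ I) (S := A) (A := E)
      fun x => (hφ x).symm
    let N : Submonoid (R ⧸ I) := (IsUnit.submonoid E).comap (algebraMap (R ⧸ I) E)
    have hN : IsLocalization N E := by
      refine IsLocalization.of_le (M := Algebra.algebraMapSubmonoid (R ⧸ I) (Submonoid.powers g)) N ?_
        fun r hr => hr
      intro x hx
      exact IsLocalization.map_units E (⟨x, hx⟩ : Algebra.algebraMapSubmonoid (R ⧸ I) (Submonoid.powers g))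
    have hle : Submonoid.powers (Ideal.Quotient.mk I (g1 J)) ≤ N := by
      rw [Submonoid.powers_le]
      exact hu
    have : IsLocalization (N.map (algebraMap (R ⧸ I) A)) E :=
      IsLocalization.isLocalization_of_submonoid_le A E (Submonoid.powers (Ideal.Quotient.mk I (g1 J))) N hle
    exact Groth.Agent.S5807.isRegularRing_of_isLocalization A E (N.map (algebraMap (R ⧸ I) A))
  · intro J i hi a ha
    rw [← map_sp] at ha ⊢
    obtain ⟨x, u, rfl⟩ := IsLocalization.exists_mk'_eq (Submonoid.powers g) a
    rw [IsLocalization.mk'_mem_map_algebraMap_iff]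
    rw [← IsLocalization.mk'_one (M := Submonoid.powers g) _ (z i), ← IsLocalization.mk'_mul,
      IsLocalization.mk'_mem_map_algebraMap_iff] at ha
    obtain ⟨s, hs, hsx⟩ := ha
    refine ⟨g * s, Submonoid.mul_mem _ (Submonoid.mem_powers g) hs, ?_⟩
    have h5 : z i * (s * x) ∈ Ideal.span (z '' J) := by
      have : z i * (s * x) = s * (z i * x) := by ring
      rw [this]
      exact hsx
    have h6 := hg2' J i hi _ h5
    have hdvd : g2 J i ∣ g := Dvd.dvd.mul_left ((Finset.dvd_prod_of_mem (g2 J) (Finset.mem_univ i)).trans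
      (Finset.dvd_prod_of_mem (fun J => ∏ i : ι, g2 J i) (Finset.mem_univ J))) _
    obtain ⟨c, hc⟩ := hdvd
    rw [mul_assoc, hc, mul_comm (g2 J i) c, mul_assoc]
    exact Ideal.mul_mem_left _ _ h6

end K119.SncLoc
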