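import Groth.Agent.EtDl.K119.SecReg
import Groth.Agent.EtDl.K119.SncLoc

/-!
# The leaves of a certificate at a finite stage

* `quot_equiv` : for a surjection `e : P → R` with kernel `(f)`, the quotient of `R_p` by `(z_J)` is the
  quotient of `P` localized at `e⁻¹ p` by the family `fam f z J`;
* `stage_snc` : strict normal crossings at the image points of a stage.
-/

set_option autoImplicit false
universe u

open IsLocalRing

namespace K119.LeafStage

open K556.CertDef K119.RelExact K119.SecReg K119.SncLoc

variable {ι : Type}

open Classical in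
/-- The generators `f` and the `z j`, `j ∈ J`. -/
noncomputable def fam {P : Type*} [CommRing P] {m : Type} (f : m → P) (z : ι → P) (J : Set ι) : m ⊕ ι → P :=
  Sum.elim f fun i => if i ∈ J then z i else 0

theorem map_fam {P P' : Type*} [CommRing P] [CommRing P'] (φ : P →+* P') {m : Type} (f : m → P) (z : ι → P)
    (J : Set ι) : (fun l => φ (fam f z J l)) = fam (fun i => φ (f i)) (fun i => φ (z i)) J := by
  classical
  funext l
  rcases l with l | l
  · rfl
  · simp only [fam, Sum.elim_inr]
    split_ifs
    · rfl
    · exact map_zero φ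

theorem map_fam_apply {P P' : Type*} [CommRing P] [CommRing P'] (φ : P →+* P') {m : Type} (f : m → P) (z : ι → P)
    (J : Set ι) (l) : φ (fam f z J l) = fam (fun i => φ (f i)) (fun i => φ (z i)) J l :=
  congrFun (map_fam φ f z J) l

theorem span_fam {P : Type*} [CommRing P] {m : Type} (f : m → P) (z : ι → P) (J : Set ι) :
    Ideal.span (Set.range (fam f z J)) = Ideal.span (Set.range f) ⊔ Ideal.span (z '' J) := by
  classical
  apply le_antisymm
  · rw [Ideal.span_le]
    rintro _ ⟨l, rfl⟩
    rcases l with l | l
    · exact Ideal.mem_sup_left (Ideal.subset_span ⟨l, rfl⟩)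
    · simp only [fam, Sum.elim_inr]
      split_ifs with h
      · exact Ideal.mem_sup_right (Ideal.subset_span ⟨l, h, rfl⟩)
      · exact zero_mem _
  · refine sup_le ?_ ?_
    · rw [Ideal.span_le]
      rintro _ ⟨l, rfl⟩
      exact Ideal.subset_span ⟨Sum.inl l, rfl⟩
    · rw [Ideal.span_le]
      rintro _ ⟨l, hl, rfl⟩
      refine Ideal.subset_span ⟨Sum.inr l, ?_⟩
      simp [fam, hl]

/-- The kernel of the local homomorphism of a surjection. -/
theorem ker_loc {P R : Type*} [CommRing P] [CommRing R] (e : P →+* R) (he : Function.Surjective e)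
    (p : Ideal R) [p.IsPrime] (P' : Ideal P) [P'.IsPrime] (hP : P' = p.comap e) :
    RingHom.ker (Localization.localRingHom P' p e hP) =
      (RingHom.ker e).map (algebraMap P (Localization.AtPrime P')) := by
  apply le_antisymm
  · intro y hy
    obtain ⟨⟨x, t⟩, hxt⟩ := IsLocalization.surj P'.primeCompl y
    rw [RingHom.mem_ker] at hy
    have h1 : algebraMap R (Localization.AtPrime p) (e x) = 0 := by
      have h2 := congrArg (Localization.localRingHom P' p e hP) hxt
      rw [map_mul, hy, zero_mul, Localization.localRingHom_to_map] at h2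
      exact h2.symm
    obtain ⟨v, hv⟩ := (IsLocalization.map_eq_zero_iff p.primeCompl _ _).mp h1
    obtain ⟨w, hw⟩ := he v
    have h2 : w * x ∈ RingHom.ker e := by
      rw [RingHom.mem_ker, map_mul, hw]
      exact hv
    have h3 := Ideal.mem_map_of_mem (algebraMap P (Localization.AtPrime P')) h2
    rw [map_mul] at h3
    have hvQ : w ∈ P'.primeCompl := by
      intro hwP
      have : w ∈ P' := hwP
      rw [hP, Ideal.mem_comap, hw] at this
      exact v.2 this
    have h4 := (Ideal.unit_mul_mem_iff_mem _
      (IsLocalization.map_units (Localization.AtPrime P') (⟨_, hvQ⟩ : P'.primeCompl))).mp h3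
    rw [← hxt] at h4
    exact (Ideal.mul_unit_mem_iff_mem _ (IsLocalization.map_units _ t)).mp h4
  · rw [Ideal.map_le_iff_le_comap]
    intro x hx
    rw [Ideal.mem_comap, RingHom.mem_ker, Localization.localRingHom_to_map]
    have : e x = 0 := hx
    rw [this, map_zero]

theorem surj_loc {P R : Type*} [CommRing P] [CommRing R] (e : P →+* R) (he : Function.Surjective e)
    (p : Ideal R) [p.IsPrime] (P' : Ideal P) [P'.IsPrime] (hP : P' = p.comap e) :
    Function.Surjective (Localization.localRingHom P' p e hP) := by
  intro y
  obtain ⟨⟨x, t⟩, hxt⟩ := IsLocalization.surj p.primeCompl y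
  obtain ⟨x', rfl⟩ := he x
  obtain ⟨t', ht'⟩ := he t
  have htP : t' ∈ P'.primeCompl := by
    intro h
    have : t' ∈ P' := h
    rw [hP, Ideal.mem_comap, ht'] at this
    exact t.2 this
  refine ⟨IsLocalization.mk' _ x' ⟨t', htP⟩, ?_⟩
  have h1 : Localization.localRingHom P' p e hP
      (IsLocalization.mk' (Localization.AtPrime P') x' (⟨t', htP⟩ : P'.primeCompl)) *
        algebraMap R _ (t : R) = algebraMap R _ (e x') := by
    rw [← ht', ← Localization.localRingHom_to_map P' p e hP, ← Localization.localRingHom_to_map P' p e hP,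
      ← map_mul]
    exact congrArg _ (IsLocalization.mk'_spec (Localization.AtPrime P') x' (⟨t', htP⟩ : P'.primeCompl))
  have h3 : IsUnit (algebraMap R (Localization.AtPrime p) (t : R)) := IsLocalization.map_units _ t
  apply h3.mul_right_cancel
  rw [h1]
  exact hxt.symm

/-- The quotient of `R_p` by `(z_J)` in terms of a presentation. -/
theorem quot_equiv {P R : Type u} [CommRing P] [CommRing R] (e : P →+* R) (he : Function.Surjective e)
    {m : Type} (f : m → P) (hker : RingHom.ker e = Ideal.span (Set.range f)) (z : ι → P) (J : Set ι)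
    (p : Ideal R) [p.IsPrime] (P' : Ideal P) [P'.IsPrime] (hP : P' = p.comap e) :
    Nonempty ((Localization.AtPrime P' ⧸ Ideal.span (Set.range fun l => algebraMap P (Localization.AtPrime P')
      (fam f z J l))) ≃+* (Localization.AtPrime p ⧸ Ideal.span ((fun i => algebraMap R (Localization.AtPrime p)
        (e (z i))) '' J))) := by
  let loc := Localization.localRingHom P' p e hP
  have hloc : Function.Surjective loc := surj_loc e he p P' hP
  set W := Ideal.span ((fun i => algebraMap R (Localization.AtPrime p) (e (z i))) '' J) with hW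
  set X := Ideal.span (Set.range fun l => algebraMap P (Localization.AtPrime P') (fam f z J l)) with hX
  have hX' : X = (RingHom.ker e).map (algebraMap P (Localization.AtPrime P')) ⊔
      (Ideal.span (z '' J)).map (algebraMap P (Localization.AtPrime P')) := by
    rw [hker, ← Ideal.map_sup, ← span_fam, Ideal.map_span, ← Set.range_comp]
    rfl
  have hWX : W = ((Ideal.span (z '' J)).map (algebraMap P (Localization.AtPrime P'))).map loc := by
    rw [hW, map_sp, map_sp]
    congr 2
    funext i
    exact (Localization.localRingHom_to_map P' p e hP (z i)).symm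
  have hcomap : W.comap loc = X := by
    rw [hWX, Ideal.comap_map_of_surjective' _ hloc, ker_loc e he p P' hP, hX', sup_comm]
  let ψ : Localization.AtPrime P' →+* (Localization.AtPrime p ⧸ W) := (Ideal.Quotient.mk W).comp loc
  have hψ : Function.Surjective ψ := Ideal.Quotient.mk_surjective.comp hloc
  have hkψ : RingHom.ker ψ = X := by
    rw [← hcomap]
    ext x
    rw [RingHom.mem_ker, Ideal.mem_comap]
    change Ideal.Quotient.mk W (loc x) = 0 ↔ _
    rw [Ideal.Quotient.eq_zero_iff_mem]
  exact ⟨(Ideal.quotEquivOfEq hkψ.symm).trans (RingHom.quotientKerEquivOfSurjective hψ)⟩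

/-- Strict normal crossings at the image points of a stage. -/
theorem stage_snc {B₁ P P' R R' : Type u} [CommRing B₁] [CommRing P] [CommRing P'] [CommRing R] [CommRing R']
    [Algebra B₁ P] [Algebra B₁ P'] [Algebra.Smooth B₁ P] [Module.Flat B₁ P'] [IsNoetherianRing P]
    [IsNoetherianRing P'] (σ : P →ₐ[B₁] P') (e : P →+* R) (he : Function.Surjective e) (e' : P' →+* R')
    (he' : Function.Surjective e') (ψ : R →+* R') (hψ : ∀ x, ψ (e x) = e' (σ x))
    {m : Type} [Fintype m] [Fintype ι] (f : m → P) (hker : RingHom.ker e = Ideal.span (Set.range f))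
    (hker' : RingHom.ker e' = Ideal.span (Set.range fun i => σ (f i))) (z : ι → P)
    (hrel : ∀ J : Set ι, ∃ (k : ℕ) (s : Fin k → m ⊕ ι → P), Rel (fam f z J) s ∧
      Ex (fun l => σ (fam f z J l)) (fun t l => σ (s t l)))
    (h : SNC R' (fun i => e' (σ (z i)))) (q : Ideal R') [q.IsPrime] (p : Ideal R) [p.IsPrime]
    (hpq : p = q.comap ψ) : SNC (Localization.AtPrime p) (fun i => algebraMap R _ (e (z i))) := by
  have hzJ : ∀ (J : Set ι), (∀ i ∈ J, algebraMap R (Localization.AtPrime p) (e (z i)) ∈
      maximalIdeal (Localization.AtPrime p)) → ∀ i ∈ J, e' (σ (z i)) ∈ q := by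
    intro J hJ i hi
    have h1 := (IsLocalization.AtPrime.to_map_mem_maximal_iff (Localization.AtPrime p) p _).mp (hJ i hi)
    rw [hpq, Ideal.mem_comap, hψ] at h1
    exact h1
  refine snc_local ?_ ?_
  · intro J hJ
    obtain ⟨k, s, hs, hex⟩ := hrel J
    let Q : Ideal P' := q.comap e'
    have hQ : Q.IsPrime := Ideal.comap_isPrime _ _
    let Pp : Ideal P := p.comap e
    have hPp : Pp.IsPrime := Ideal.comap_isPrime _ _
    have hPQ : Pp = Q.comap (σ : P →+* P') := by
      ext x
      change e x ∈ p ↔ e' (σ x) ∈ q
      rw [hpq, Ideal.mem_comap, hψ]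
    -- regularity upstairs
    have hR' : IsRegularLocalRing (Localization.AtPrime q ⧸
        Ideal.span ((fun i => algebraMap R' (Localization.AtPrime q) (e' (σ (z i)))) '' J)) := by
      have h1 : SNC (Localization.AtPrime q) (fun i => algebraMap R' _ (e' (σ (z i)))) :=
        snc_localization q.primeCompl h
      have h2 := h1.reg J
      have hne : Nontrivial (Localization.AtPrime q ⧸
          Ideal.span ((fun i => algebraMap R' (Localization.AtPrime q) (e' (σ (z i)))) '' J)) := by
        refine Ideal.Quotient.nontrivial_iff.mpr fun htop => ?_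
        have h3 : Ideal.span ((fun i => algebraMap R' (Localization.AtPrime q) (e' (σ (z i)))) '' J) ≤
            maximalIdeal (Localization.AtPrime q) := by
          rw [Ideal.span_le]
          rintro _ ⟨i, hi, rfl⟩
          exact (IsLocalization.AtPrime.to_map_mem_maximal_iff (Localization.AtPrime q) q _).mpr (hzJ J hJ i hi)
        rw [htop] at h3
        exact (maximalIdeal.isMaximal (Localization.AtPrime q)).ne_top (top_le_iff.mp h3)
      have hl : IsLocalRing (Localization.AtPrime q ⧸
          Ideal.span ((fun i => algebraMap R' (Localization.AtPrime q) (e' (σ (z i)))) '' J)) :=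
        IsLocalRing.of_surjective' (Ideal.Quotient.mk _) Ideal.Quotient.mk_surjective
      exact IsRegularLocalRing.of_isRegularRing_of_isLocalRing _
    obtain ⟨E'⟩ := quot_equiv e' he' (fun i => σ (f i)) hker' (fun i => σ (z i)) J q Q rfl
    have hR2 := IsRegularLocalRing.of_ringEquiv E'.symm
    have hfam : (fun l => algebraMap P' (Localization.AtPrime Q) (fam (fun i => σ (f i)) (fun i => σ (z i)) J l)) =
        fun l => algebraMap P' (Localization.AtPrime Q) (σ (fam f z J l)) := by
      funext l
      exact congrArg _ (map_fam_apply (σ : P →+* P') f z J l).symm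
    rw [hfam] at hR2
    have hR3 := leaf σ (fam f z J) s hs hex Q Pp hPQ hR2
    obtain ⟨E⟩ := quot_equiv e he f hker z J p Pp rfl
    exact IsRegularLocalRing.of_ringEquiv E
  · intro J hJ i hi hmem
    have h1 := not_mem_span h q J (hzJ J hJ) i hi (Localization.AtPrime q)
    apply h1
    have h2 := Ideal.mem_map_of_mem (Localization.localRingHom p q ψ hpq) hmem
    rw [map_sp] at h2
    have h3 : ∀ x : P, Localization.localRingHom p q ψ hpq (algebraMap R _ (e x)) =
        algebraMap R' _ (e' (σ x)) := by
      intro x
      rw [Localization.localRingHom_to_map, hψ]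
    simpa only [h3] using h2

end K119.LeafStage
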