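import Groth.Agent.S0560
import Groth.Agent.Divis.RegImm
import Mathlib.RingTheory.RegularLocalRing.Defs
import Mathlib.RingTheory.Nakayama

/-!
# Generators of relations and regular sequences

* `Ex f s` : every relation between the `f i` is a combination of the relations `s l`;
* `Ex.of_surj` : if this holds modulo a nonzerodivisor `w` of the maximal ideal of a Noetherian local ring then it
  holds, and `w` is a nonzerodivisor modulo `(f)`;
* `regular_of_list` : if `π : A → C` is a surjection of Noetherian local rings with kernel generated by a weakly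
  regular sequence, the images of the relations `s l` generate the relations of the `π (f i)` and `C ⧸ (π f)` is
  regular, then `A ⧸ (f)` is regular.
-/

set_option autoImplicit false
universe u

open IsLocalRing RingTheory.Sequence

namespace K119.RelExact

/-- Every relation between the `f i` is a combination of the `s l`. -/
def Ex {A : Type*} [CommRing A] {m k : Type*} [Fintype m] [Fintype k] (f : m → A) (s : k → m → A) : Prop :=
  ∀ a : m → A, ∑ i, a i * f i = 0 → ∃ c : k → A, ∀ i, a i = ∑ l, c l * s l i

/-- The `s l` are relations between the `f i`. -/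
def Rel {A : Type*} [CommRing A] {m k : Type*} [Fintype m] (f : m → A) (s : k → m → A) : Prop :=
  ∀ l, ∑ i, s l i * f i = 0

theorem Rel.map {A C : Type*} [CommRing A] [CommRing C] {m k : Type*} [Fintype m]
    {f : m → A} {s : k → m → A} (h : Rel f s) (φ : A →+* C) :
    Rel (fun i => φ (f i)) (fun l i => φ (s l i)) := by
  intro l
  have := congrArg φ (h l)
  simpa [map_sum, map_mul] using this

/-- Localization preserves generators of relations. -/
theorem Ex.localization {A : Type*} [CommRing A] {m k : Type*} [Fintype m] [Fintype k] {f : m → A}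
    {s : k → m → A} (h : Ex f s) (M : Submonoid A) (B : Type*) [CommRing B] [Algebra A B]
    [IsLocalization M B] : Ex (fun i => algebraMap A B (f i)) (fun l i => algebraMap A B (s l i)) := by
  classical
  intro a ha
  obtain ⟨d, hd⟩ := IsLocalization.exist_integer_multiples_of_finite M a
  choose b hb using hd
  have h1 : algebraMap A B (∑ i, b i * f i) = 0 := by
    rw [map_sum]
    have : ∀ i, algebraMap A B (b i * f i) = algebraMap A B (d : A) * (a i * algebraMap A B (f i)) := by
      intro i
      rw [map_mul, hb i, Algebra.smul_def, mul_assoc]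
    simp only [this]
    rw [← Finset.mul_sum, ha, mul_zero]
  obtain ⟨t, ht⟩ := (IsLocalization.map_eq_zero_iff M B _).mp h1
  obtain ⟨c, hc⟩ := h (fun i => (t : A) * b i) (by
    simp only [mul_assoc]
    rw [← Finset.mul_sum]
    exact ht)
  obtain ⟨v, hv⟩ := IsLocalization.map_units B t
  obtain ⟨w, hw⟩ := IsLocalization.map_units B d
  refine ⟨fun l => ↑(v⁻¹) * ↑(w⁻¹) * algebraMap A B (c l), fun i => ?_⟩
  have h2 := congrArg (algebraMap A B) (hc i)
  simp only [map_mul, map_sum, hb i, Algebra.smul_def, ← hv, ← hw] at h2
  have h3 : a i = ↑(v⁻¹) * ↑(w⁻¹) * ((v : B) * ((w : B) * a i)) := by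
    have e1 : (↑(v⁻¹) : B) * v = 1 := v.inv_mul
    have e2 : (↑(w⁻¹) : B) * w = 1 := w.inv_mul
    linear_combination (-(a i) * ↑(w⁻¹) * (w : B)) * e1 + (-(a i)) * e2
  rw [h3, h2, Finset.mul_sum]
  exact Finset.sum_congr rfl fun l _ => by ring

section Local

variable {A : Type u} [CommRing A] [IsLocalRing A] [IsNoetherianRing A]

/-- The three-term complex lemma. -/
theorem Ex.of_surj {C : Type u} [CommRing C] (π : A →+* C) (hπ : Function.Surjective π) (w : A)
    (hw : w ∈ maximalIdeal A) (hreg : ∀ x, w * x = 0 → x = 0) (hker : RingHom.ker π = Ideal.span {w})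
    {m k : Type} [Fintype m] [Fintype k] {f : m → A} {s : k → m → A} (hs : Rel f s)
    (h : Ex (fun i => π (f i)) (fun l i => π (s l i))) :
    Ex f s ∧ ∀ x, w * x ∈ Ideal.span (Set.range f) → x ∈ Ideal.span (Set.range f) := by
  classical
  -- decomposition of a relation modulo `w`
  have key : ∀ a : m → A, π (∑ i, a i * f i) = 0 → ∃ (c : k → A) (b : m → A),
      ∀ i, a i = ∑ l, c l * s l i + w * b i := by
    intro a ha
    obtain ⟨c, hc⟩ := h (fun i => π (a i)) (by simpa [map_sum, map_mul] using ha)
    choose c' hc' using fun l => hπ (c l)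
    have h1 : ∀ i, ∃ y, a i - ∑ l, c' l * s l i = w * y := by
      intro i
      have : a i - ∑ l, c' l * s l i ∈ RingHom.ker π := by
        rw [RingHom.mem_ker, map_sub, hc i, map_sum]
        simp [hc']
      rw [hker, Ideal.mem_span_singleton'] at this
      obtain ⟨y, hy⟩ := this
      exact ⟨y, by rw [← hy, mul_comm]⟩
    choose b hb using h1
    exact ⟨c', b, fun i => by rw [← hb i]; ring⟩
  -- contribution of the relations
  have hrel : ∀ c : k → A, ∑ i, (∑ l, c l * s l i) * f i = 0 := by
    intro c
    have : ∑ i, (∑ l, c l * s l i) * f i = ∑ l, c l * ∑ i, s l i * f i := by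
      simp only [Finset.sum_mul, Finset.mul_sum]
      rw [Finset.sum_comm]
      exact Finset.sum_congr rfl fun l _ => Finset.sum_congr rfl fun i _ => by ring
    rw [this]
    exact Finset.sum_eq_zero fun l _ => by rw [hs l, mul_zero]
  have hsum : ∀ (a : m → A) (c : k → A) (b : m → A), (∀ i, a i = ∑ l, c l * s l i + w * b i) →
      ∑ i, a i * f i = w * ∑ i, b i * f i := by
    intro a c b hab
    have : ∀ i, a i * f i = (∑ l, c l * s l i) * f i + w * (b i * f i) := by
      intro i
      rw [hab i]; ring
    simp only [this]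
    rw [Finset.sum_add_distrib, hrel, zero_add, Finset.mul_sum]
  refine ⟨?_, ?_⟩
  · -- Nakayama
    let K : Submodule A (m → A) :=
      { carrier := {a | ∑ i, a i * f i = 0}
        add_mem' := fun {a b} ha hb => by
          have ha' : ∑ i, a i * f i = 0 := ha
          have hb' : ∑ i, b i * f i = 0 := hb
          change ∑ i, (a i + b i) * f i = 0
          simp only [add_mul]
          rw [Finset.sum_add_distrib, ha', hb', add_zero]
        zero_mem' := by simp
        smul_mem' := fun c a ha => by
          have ha' : ∑ i, a i * f i = 0 := ha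
          change ∑ i, (c * a i) * f i = 0
          simp only [mul_assoc]
          rw [← Finset.mul_sum, ha', mul_zero] }
    let N : Submodule A (m → A) := Submodule.span A (Set.range s)
    have hK : K ≤ N := by
      refine Submodule.le_of_le_smul_of_le_jacobson_bot (I := Ideal.span {w})
        (IsNoetherian.noetherian K) ?_ ?_
      · rw [IsLocalRing.jacobson_eq_maximalIdeal ⊥ bot_ne_top, Ideal.span_singleton_le_iff_mem]
        exact hw
      · intro a ha
        have ha' : ∑ i, a i * f i = 0 := ha
        obtain ⟨c, b, hab⟩ := key a (by rw [ha', map_zero])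
        have hb : b ∈ K := by
          change ∑ i, b i * f i = 0
          apply hreg
          rw [← hsum a c b hab, ha']
        have h2 : a = (∑ l, c l • s l) + w • b := by
          funext i
          simp only [Pi.add_apply, Finset.sum_apply, Pi.smul_apply, smul_eq_mul]
          exact hab i
        rw [h2]
        refine Submodule.add_mem_sup (Submodule.sum_mem _ fun l _ =>
          Submodule.smul_mem _ _ (Submodule.subset_span ⟨l, rfl⟩)) ?_
        exact Submodule.smul_mem_smul (Ideal.mem_span_singleton_self w) hb
    intro a ha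
    have h3 : a ∈ N := hK ha
    obtain ⟨c, hc⟩ := (Submodule.mem_span_range_iff_exists_fun A).mp h3
    refine ⟨c, fun i => ?_⟩
    rw [← hc]
    simp [Finset.sum_apply]
  · intro x hx
    obtain ⟨a, ha⟩ := (Ideal.mem_span_range_iff_exists_fun).mp hx
    obtain ⟨c, b, hab⟩ := key a (by
      rw [ha, ← RingHom.mem_ker, hker]
      exact Ideal.mul_mem_right _ _ (Ideal.mem_span_singleton_self w))
    have h4 := hsum a c b hab
    rw [ha] at h4
    have h5 : x = ∑ i, b i * f i := by
      have : w * (x - ∑ i, b i * f i) = 0 := by rw [mul_sub, h4, sub_self]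
      exact sub_eq_zero.mp (hreg _ this)
    rw [h5]
    exact Ideal.mem_span_range_iff_exists_fun.mpr ⟨b, rfl⟩

end Local

/-- Regularity of `A ⧸ (f)` from regularity of `C ⧸ (π f)`, `π` a surjection with kernel generated by a weakly
regular sequence. -/
theorem regular_of_list {C : Type u} [CommRing C] {m k : Type} [Fintype m] [Fintype k] (n : ℕ) :
    ∀ (A : Type u) [CommRing A] [IsLocalRing A] [IsNoetherianRing A] (ws : List A) (_ : ws.length = n)
      (_ : ∀ w ∈ ws, w ∈ maximalIdeal A) (_ : IsWeaklyRegular A ws) (π : A →+* C)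
      (_ : Function.Surjective π) (_ : RingHom.ker π = Ideal.ofList ws) (f : m → A) (s : k → m → A)
      (_ : Rel f s) (_ : Ex (fun i => π (f i)) (fun l i => π (s l i)))
      (_ : IsRegularLocalRing (C ⧸ Ideal.span (Set.range fun i => π (f i)))),
      Ex f s ∧ IsRegularLocalRing (A ⧸ Ideal.span (Set.range f)) := by
  induction n with
  | zero =>
    intro A _ _ _ ws hlen hws hreg π hπ hker f s hs hex hR
    obtain rfl := List.eq_nil_of_length_eq_zero hlen
    rw [Ideal.ofList_nil] at hker
    have hinj : Function.Injective π := (RingHom.injective_iff_ker_eq_bot π).mpr hker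
    refine ⟨fun a ha => ?_, ?_⟩
    · obtain ⟨c, hc⟩ := hex (fun i => π (a i)) (by
        have := congrArg π ha
        simpa [map_sum, map_mul] using this)
      choose c' hc' using fun l => hπ (c l)
      refine ⟨c', fun i => hinj ?_⟩
      rw [hc i, map_sum]
      simp [hc']
    · let e : A ≃+* C := RingEquiv.ofBijective π ⟨hinj, hπ⟩
      have h1 : Ideal.span (Set.range fun i => π (f i)) = (Ideal.span (Set.range f)).map (e : A →+* C) := by
        rw [Ideal.map_span, ← Set.range_comp]
        rfl
      exact IsRegularLocalRing.of_ringEquiv (Ideal.quotientEquiv _ _ e h1).symm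
  | succ n ih =>
    intro A _ _ _ ws hlen hws hreg π hπ hker f s hs hex hR
    obtain ⟨w, ws, rfl⟩ := List.exists_cons_of_length_eq_add_one hlen
    let φ : A →+* A ⧸ Ideal.span {w} := Ideal.Quotient.mk _
    have hφ : Function.Surjective φ := Ideal.Quotient.mk_surjective
    have hkerφ : RingHom.ker φ = Ideal.ofList [w] := by
      rw [Ideal.mk_ker, Ideal.ofList_singleton]
    have hcons : w :: ws = [w] ++ ws := rfl
    rw [hcons, Groth.Agent.Divis.RegImm.isWeaklyRegular_append_of_surjective φ hφ [w] ws hkerφ] at hreg
    obtain ⟨hw1, hw2⟩ := hreg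
    have hwreg : ∀ x : A, w * x = 0 → x = 0 := by
      intro x hx
      have h1 := (isWeaklyRegular_cons_iff A w []).mp hw1
      have h2 : IsSMulRegular A w := h1.1
      exact h2 (by simpa using hx)
    have hwm : w ∈ maximalIdeal A := hws w (by simp)
    have : Nontrivial (A ⧸ Ideal.span {w}) := by
      refine Ideal.Quotient.nontrivial_iff.mpr fun h => ?_
      have h2 : Ideal.span {w} ≤ maximalIdeal A := (Ideal.span_singleton_le_iff_mem _).mpr hwm
      rw [h] at h2
      exact (maximalIdeal.isMaximal A).ne_top (top_le_iff.mp h2)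
    have : IsLocalRing (A ⧸ Ideal.span {w}) := IsLocalRing.of_surjective' φ hφ
    have hwker : w ∈ RingHom.ker π := by
      rw [hker]
      exact Ideal.subset_span (by simp)
    let π' : A ⧸ Ideal.span {w} →+* C := Ideal.Quotient.lift _ π (by
      intro a ha
      rw [← RingHom.mem_ker]
      exact (Ideal.span_singleton_le_iff_mem _).mpr hwker ha)
    have hππ : ∀ a, π' (φ a) = π a := fun a => Ideal.Quotient.lift_mk _ _ _
    have hπ' : Function.Surjective π' := fun c => by
      obtain ⟨a, rfl⟩ := hπ c
      exact ⟨φ a, hππ a⟩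
    have hlocal : ∀ a ∈ maximalIdeal A, φ a ∈ maximalIdeal (A ⧸ Ideal.span {w}) := by
      intro a ha
      rw [IsLocalRing.mem_maximalIdeal, mem_nonunits_iff]
      intro hu
      have : IsLocalHom φ := IsLocalHom.of_surjective φ hφ
      exact ha (isUnit_of_map_unit φ a hu)
    have hker' : RingHom.ker π' = Ideal.ofList (ws.map φ) := by
      have h1 : RingHom.ker π' = (RingHom.ker π).map φ := by
        apply le_antisymm
        · intro b hb
          obtain ⟨a, rfl⟩ := hφ b
          refine Ideal.mem_map_of_mem φ ?_
          rw [RingHom.mem_ker, ← hππ]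
          exact hb
        · rw [Ideal.map_le_iff_le_comap]
          intro a ha
          rw [Ideal.mem_comap, RingHom.mem_ker, hππ]
          exact ha
      rw [h1, hker, Ideal.map_ofList]
      have h2 : (w :: ws).map φ = φ w :: ws.map φ := rfl
      have h3 : φ w = 0 := Ideal.Quotient.eq_zero_iff_mem.mpr (Ideal.mem_span_singleton_self w)
      rw [h2, Ideal.ofList_cons, h3, Ideal.span_singleton_eq_bot.mpr rfl, bot_sup_eq]
    have hs' : Rel (fun i => φ (f i)) (fun l i => φ (s l i)) := hs.map φ
    have hlen' : (ws.map φ).length = n := by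
      rw [List.length_map]
      simpa using hlen
    obtain ⟨hE, hreg'⟩ := ih (A ⧸ Ideal.span {w}) (ws.map φ) hlen' (by
        intro x hx
        obtain ⟨y, hy, rfl⟩ := List.mem_map.mp hx
        exact hlocal y (hws y (List.mem_cons_of_mem _ hy))) hw2 π' hπ' hker'
      (fun i => φ (f i)) (fun l i => φ (s l i)) hs' (by simpa only [hππ] using hex)
      (by
        have hfun : (fun i => π' (φ (f i))) = fun i => π (f i) := funext fun i => hππ _
        rw [hfun]
        exact hR)
    obtain ⟨hE2, hnzd⟩ := Ex.of_surj φ hφ w hwm hwreg (by rw [Ideal.mk_ker]) hs hE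
    refine ⟨hE2, ?_⟩
    -- the double quotient
    let I := Ideal.span (Set.range f)
    let J := Ideal.span {w}
    have e1 : Ideal.span (Set.range fun i => φ (f i)) = I.map (Ideal.Quotient.mk J) := by
      rw [Ideal.map_span, ← Set.range_comp]
      rfl
    have e2 : J.map (Ideal.Quotient.mk I) = Ideal.span {Ideal.Quotient.mk I w} := by
      rw [Ideal.map_span, Set.image_singleton]
    have hreg2 : IsRegularLocalRing ((A ⧸ J) ⧸ I.map (Ideal.Quotient.mk J)) := by
      rw [← e1]; exact hreg'
    have hreg3 : IsRegularLocalRing ((A ⧸ I) ⧸ J.map (Ideal.Quotient.mk I)) :=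
      IsRegularLocalRing.of_ringEquiv (DoubleQuot.quotQuotEquivComm J I)
    have hreg4 : IsRegularLocalRing ((A ⧸ I) ⧸ Ideal.span {Ideal.Quotient.mk I w}) := by
      rw [← e2]; exact hreg3
    have hnt : Nontrivial (A ⧸ I) := by
      by_contra hn
      rw [not_nontrivial_iff_subsingleton] at hn
      have : Subsingleton ((A ⧸ I) ⧸ Ideal.span {Ideal.Quotient.mk I w}) :=
        Function.Surjective.subsingleton (Ideal.Quotient.mk_surjective)
      have h6 : Nontrivial ((A ⧸ I) ⧸ Ideal.span {Ideal.Quotient.mk I w}) := inferInstance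
      exact not_subsingleton _ this
    have hloc : IsLocalRing (A ⧸ I) :=
      IsLocalRing.of_surjective' (Ideal.Quotient.mk I) Ideal.Quotient.mk_surjective
    refine Groth.Agent.S0560.result (A ⧸ I) (Ideal.Quotient.mk I w) ?_ ?_
    · rw [IsLocalRing.mem_maximalIdeal, mem_nonunits_iff]
      intro hu
      have : IsLocalHom (Ideal.Quotient.mk I) := IsLocalHom.of_surjective _ Ideal.Quotient.mk_surjective
      exact hwm (isUnit_of_map_unit (Ideal.Quotient.mk I) w hu)
    · rw [mem_nonZeroDivisors_iff]
      have h7 : ∀ x : A ⧸ I, Ideal.Quotient.mk I w * x = 0 → x = 0 := by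
        intro x hx
        obtain ⟨a, rfl⟩ := Ideal.Quotient.mk_surjective x
        rw [← map_mul, Ideal.Quotient.eq_zero_iff_mem] at hx
        exact Ideal.Quotient.eq_zero_iff_mem.mpr (hnzd a hx)
      exact ⟨fun x hx => h7 x hx, fun x hx => h7 x (by rw [mul_comm]; exact hx)⟩

end K119.RelExact
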