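import Groth.Agent.EtDl.K119.RelExact
import Groth.Agent.S0565
import Groth.Agent.Flat2H.SmoothSection
import Mathlib.RingTheory.RingHom.LocallyStandardSmooth
import Mathlib.RingTheory.RingHom.Flat
import Mathlib.RingTheory.TensorProduct.Quotient

/-!
# Regularity of a stage from regularity of the base change along a section

* `exists_list` : the kernel of a section `τ : S →ₐ[D] D` of a smooth algebra is generated, at the primes of
  the section, by a weakly regular sequence;
* `leaf` : let `B₁ → O₁` be flat, `T₁` smooth over `B₁`, `σ : T₁ → O₁` a `B₁`-algebra map, `f` a finite family in `T₁`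
  and `s` a family of relations of `f` whose images generate the relations of `σ f`. If `O₁ ⧸ (σ f)` is regular at
  a prime `q` then `T₁ ⧸ (f)` is regular at `σ⁻¹ q`.
-/

set_option autoImplicit false
universe u

open IsLocalRing RingTheory.Sequence
open scoped TensorProduct

namespace K119.SecReg

open K119.RelExact

section

theorem flat_quotient {A B : Type u} [CommRing A] [CommRing B] [Algebra A B] [Module.Flat A B] (I : Ideal A) :
    Module.Flat (A ⧸ I) (B ⧸ I.map (algebraMap A B)) :=
  Module.Flat.of_linearEquiv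
    (Algebra.TensorProduct.quotIdealMapEquivQuotTensor B I).toLinearEquiv

/-- Flat descent of regularity of quotients. -/
theorem regular_quot_of_flat {T A : Type u} [CommRing T] [IsLocalRing T] [IsNoetherianRing T] [CommRing A]
    [IsLocalRing A] [Algebra T A] [IsLocalHom (algebraMap T A)] [Module.Flat T A] (I : Ideal T)
    (h : IsRegularLocalRing (A ⧸ I.map (algebraMap T A))) : IsRegularLocalRing (T ⧸ I) := by
  have hne : I.map (algebraMap T A) ≠ ⊤ := Ideal.Quotient.nontrivial_iff.mp inferInstance
  have hI : I ≤ maximalIdeal T := by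
    refine IsLocalRing.le_maximalIdeal fun h1 => hne ?_
    rw [h1, Ideal.map_top]
  have hIne : I ≠ ⊤ := fun h1 => hne (by rw [h1, Ideal.map_top])
  have hn : Nontrivial (T ⧸ I) := Ideal.Quotient.nontrivial_iff.mpr hIne
  have hl : IsLocalRing (T ⧸ I) :=
    IsLocalRing.of_surjective' (Ideal.Quotient.mk I) Ideal.Quotient.mk_surjective
  have := flat_quotient (B := A) I
  have : IsLocalHom (algebraMap (T ⧸ I) (A ⧸ I.map (algebraMap T A))) := by
    refine ⟨fun x hx => ?_⟩
    obtain ⟨a, rfl⟩ := Ideal.Quotient.mk_surjective x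
    have h1 : algebraMap (T ⧸ I) (A ⧸ I.map (algebraMap T A)) (Ideal.Quotient.mk I a) =
      Ideal.Quotient.mk _ (algebraMap T A a) := rfl
    rw [h1] at hx
    have : IsLocalHom (Ideal.Quotient.mk (I.map (algebraMap T A))) :=
      IsLocalHom.of_surjective _ Ideal.Quotient.mk_surjective
    have h2 : IsUnit (algebraMap T A a) := isUnit_of_map_unit _ _ hx
    have h3 : IsUnit a := isUnit_of_map_unit _ _ h2
    exact h3.map _
  exact Groth.Agent.S0565.result (T ⧸ I) (A ⧸ I.map (algebraMap T A))

end

section Sec

variable {D S : Type u} [CommRing D] [CommRing S] [Algebra D S]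

/-- The kernel of a section of a smooth algebra is locally generated by a weakly regular sequence. -/
theorem exists_list [Algebra.Smooth D S] (τ : S →ₐ[D] D) (q : Ideal D) [hq : q.IsPrime] (Q : Ideal S)
    [hQ : Q.IsPrime] (hQq : Q = q.comap (τ : S →+* D)) :
    ∃ ws : List (Localization.AtPrime Q), IsWeaklyRegular (Localization.AtPrime Q) ws ∧
      (RingHom.ker τ).map (algebraMap S (Localization.AtPrime Q)) = Ideal.ofList ws := by
  have hsm : (algebraMap D S).Smooth := (RingHom.smooth_algebraMap).mpr inferInstance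
  obtain ⟨s, hs, hstd⟩ := hsm.locally_isStandardSmooth
  have hmQ : ∀ x : S, x ∉ Q ↔ τ x ∉ q := fun x => by rw [hQq]; exact Iff.rfl
  obtain ⟨t, hts, htQ⟩ : ∃ t ∈ s, t ∉ Q := by
    by_contra hc
    push Not at hc
    have : Ideal.span s ≤ Q := Ideal.span_le.mpr hc
    rw [hs] at this
    exact hQ.ne_top (top_le_iff.mp this)
  let L := Localization.AtPrime Q
  let B1 := Localization.Away t
  let a : D := τ t
  have haq : a ∉ q := (hmQ t).mp htQ
  let f : D →+* B1 := (algebraMap S B1).comp (algebraMap D S)
  have hf : f.IsStandardSmooth := hstd t hts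
  let D' := Localization.Away a
  let B := Localization.Away (f a)
  have hf' : (IsLocalization.Away.map D' B f a).IsStandardSmooth := by
    have h1 : RingHom.LocalizationAwayPreserves @RingHom.IsStandardSmooth :=
      RingHom.isStandardSmooth_localizationPreserves.away
    exact h1 _ a _ _ hf
  let _ : Algebra D' B := (IsLocalization.Away.map D' B f a).toAlgebra
  -- the section
  let g1 : S →+* D' := (algebraMap D D').comp (τ : S →+* D)
  have hg1 : IsUnit (g1 t) := IsLocalization.Away.algebraMap_isUnit (S := D') a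
  let ρ : B1 →+* D' := IsLocalization.Away.lift t hg1
  have hρ : ∀ x : S, ρ (algebraMap S B1 x) = g1 x := fun x => IsLocalization.Away.lift_eq t hg1 x
  have hρf : ∀ d : D, ρ (f d) = algebraMap D D' d := by
    intro d
    change ρ (algebraMap S B1 (algebraMap D S d)) = _
    rw [hρ]
    change algebraMap D D' (τ (algebraMap D S d)) = _
    rw [AlgHom.commutes]
    rfl
  have hρa : IsUnit (ρ (f a)) := by
    rw [hρf]
    exact IsLocalization.Away.algebraMap_isUnit (S := D') a
  let π0 : B →+* D' := IsLocalization.Away.lift (f a) hρa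
  have hπ0 : ∀ x : B1, π0 (algebraMap B1 B x) = ρ x := fun x => IsLocalization.Away.lift_eq (f a) hρa x
  have hcomp : π0.comp (IsLocalization.Away.map D' B f a) = RingHom.id D' := by
    refine IsLocalization.ringHom_ext (Submonoid.powers a) ?_
    ext d
    simp only [RingHom.comp_apply, RingHom.id_apply]
    rw [IsLocalization.Away.map, IsLocalization.map_eq, hπ0, hρf]
  let π : B →ₐ[D'] D' := ⟨π0, fun d => by
    have := DFunLike.congr_fun hcomp d
    exact this⟩
  obtain ⟨c, l, hc, -, hl⟩ :=
    Groth.Agent.Flat2H.SmoothSection.exists_regular_of_isStandardSmooth_of_section hf' π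
  -- `L` as a localization of `B`
  have htL : IsUnit (algebraMap S L t) := IsLocalization.map_units L (⟨t, htQ⟩ : Q.primeCompl)
  have haL : IsUnit (algebraMap S L (algebraMap D S a)) := by
    refine IsLocalization.map_units L (⟨algebraMap D S a, ?_⟩ : Q.primeCompl)
    refine (hmQ _).mpr ?_
    rw [AlgHom.commutes]
    exact haq
  let l1 : B1 →+* L := IsLocalization.Away.lift t htL
  have hl1 : ∀ x : S, l1 (algebraMap S B1 x) = algebraMap S L x := fun x => IsLocalization.Away.lift_eq t htL x
  have hl1a : IsUnit (l1 (f a)) := by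
    change IsUnit (l1 (algebraMap S B1 (algebraMap D S a)))
    rw [hl1]; exact haL
  let l2 : B →+* L := IsLocalization.Away.lift (f a) hl1a
  have hl2 : ∀ x : B1, l2 (algebraMap B1 B x) = l1 x := fun x => IsLocalization.Away.lift_eq (f a) hl1a x
  let _ : Algebra B L := l2.toAlgebra
  have hSB : ∀ x : S, algebraMap S B x = algebraMap B1 B (algebraMap S B1 x) := fun x =>
    IsScalarTower.algebraMap_apply S B1 B x
  have hSL : ∀ x : S, algebraMap S L x = algebraMap B L (algebraMap S B x) := by
    intro x
    rw [hSB]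
    change algebraMap S L x = l2 (algebraMap B1 B (algebraMap S B1 x))
    rw [hl2, hl1]
  have : IsScalarTower S B L := IsScalarTower.of_algebraMap_eq hSL
  have : IsLocalization.Away (algebraMap S B1 (algebraMap D S a)) B := inferInstanceAs
    (IsLocalization.Away (f a) (Localization.Away (f a)))
  have h3 : IsLocalization.Away (t * algebraMap D S a) B :=
    IsLocalization.Away.mul' B1 B t (algebraMap D S a)
  have hle : Submonoid.powers (t * algebraMap D S a) ≤ Q.primeCompl := by
    rw [Submonoid.powers_le]
    refine Q.primeCompl.mul_mem htQ ((hmQ _).mpr ?_)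
    rw [AlgHom.commutes]
    exact haq
  have h4 : IsLocalization (Q.primeCompl.map (algebraMap S B)) L :=
    IsLocalization.isLocalization_of_submonoid_le B L (Submonoid.powers (t * algebraMap D S a))
      Q.primeCompl hle
  let N : Submonoid B := (IsUnit.submonoid L).comap (algebraMap B L)
  have h5 : IsLocalization N L := by
    refine IsLocalization.of_le (M := Q.primeCompl.map (algebraMap S B)) N ?_ fun r hr => hr
    rintro _ ⟨x, hx, rfl⟩
    change IsUnit (algebraMap B L (algebraMap S B x))
    rw [← IsScalarTower.algebraMap_apply]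
    exact IsLocalization.map_units L (⟨x, hx⟩ : Q.primeCompl)
  -- `c` is a unit in `L`
  let E := Localization.AtPrime q
  let loc : L →+* E := Localization.localRingHom Q q (τ : S →+* D) hQq
  have : IsLocalHom loc := Localization.isLocalHom_localRingHom Q q (τ : S →+* D) hQq
  have haE : IsUnit (algebraMap D E a) := IsLocalization.map_units E (⟨a, haq⟩ : q.primeCompl)
  let d' : D' →+* E := IsLocalization.Away.lift a haE
  have hd' : ∀ x : D, d' (algebraMap D D' x) = algebraMap D E x := fun x => IsLocalization.Away.lift_eq a haE x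
  have hdiag : loc.comp l2 = d'.comp π0 := by
    refine IsLocalization.ringHom_ext (Submonoid.powers (f a)) ?_
    refine IsLocalization.ringHom_ext (Submonoid.powers t) ?_
    ext x
    simp only [RingHom.comp_apply]
    rw [hl2, hl1, hπ0, hρ]
    change loc (algebraMap S L x) = d' (algebraMap D D' (τ x))
    rw [hd']
    exact Localization.localRingHom_to_map Q q (τ : S →+* D) hQq x
  have hcN : c ∈ N := by
    change IsUnit (l2 c)
    refine isUnit_of_map_unit loc _ ?_
    have h6 : loc (l2 c) = d' (π0 c) := DFunLike.congr_fun hdiag c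
    rw [h6]
    have h7 : π0 c = 1 := hc
    rw [h7, map_one]
    exact isUnit_one
  obtain ⟨hreg, hker⟩ := hl L N hcN
  refine ⟨_, hreg, ?_⟩
  rw [← hker]
  -- comparison of the kernels
  apply le_antisymm
  · rw [Ideal.map_le_iff_le_comap]
    intro x hx
    rw [Ideal.mem_comap, IsScalarTower.algebraMap_apply S B L]
    refine Ideal.mem_map_of_mem _ ?_
    rw [RingHom.mem_ker] at hx ⊢
    change π0 (algebraMap S B x) = 0
    rw [hSB, hπ0, hρ]
    change algebraMap D D' (τ x) = 0
    rw [hx, map_zero]
  · rw [Ideal.map_le_iff_le_comap]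
    intro b hb
    rw [Ideal.mem_comap]
    obtain ⟨⟨x, u⟩, hxu⟩ := IsLocalization.surj (Submonoid.powers (t * algebraMap D S a)) b
    have hb0 : π0 b = 0 := hb
    have h8 : π0 (algebraMap S B x) = 0 := by
      rw [← hxu, map_mul, hb0, zero_mul]
    have h9 : algebraMap D D' (τ x) = 0 := by
      rwa [hSB, hπ0, hρ] at h8
    obtain ⟨⟨_, n, rfl⟩, hn⟩ := (IsLocalization.map_eq_zero_iff (Submonoid.powers a) D' _).mp h9
    have h10 : algebraMap D S (a ^ n) * x ∈ RingHom.ker τ := by
      rw [RingHom.mem_ker, map_mul, AlgHom.commutes]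
      exact hn
    have h11 : algebraMap S L (algebraMap D S (a ^ n) * x) ∈ (RingHom.ker τ).map (algebraMap S L) :=
      Ideal.mem_map_of_mem _ h10
    rw [map_mul] at h11
    have h12 : IsUnit (algebraMap S L (algebraMap D S (a ^ n))) := by
      rw [map_pow, map_pow]
      exact haL.pow n
    have h13 : algebraMap S L x ∈ (RingHom.ker τ).map (algebraMap S L) :=
      (Ideal.unit_mul_mem_iff_mem _ h12).mp h11
    have h14 : algebraMap B L b * algebraMap S L (u : S) = algebraMap S L x := by
      rw [IsScalarTower.algebraMap_apply S B L, IsScalarTower.algebraMap_apply S B L x, ← map_mul, hxu]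
    rw [← h14] at h13
    have h15 : IsUnit (algebraMap S L (u : S)) := IsLocalization.map_units L (⟨u, hle u.2⟩ : Q.primeCompl)
    exact (Ideal.mul_unit_mem_iff_mem _ h15).mp h13

/-- The kernel of the local homomorphism of a surjection with a section. -/
theorem ker_localRingHom (τ : S →ₐ[D] D) (q : Ideal D) [hq : q.IsPrime] (Q : Ideal S)
    [hQ : Q.IsPrime] (hQq : Q = q.comap (τ : S →+* D)) :
    RingHom.ker (Localization.localRingHom Q q (τ : S →+* D) hQq) =
      (RingHom.ker τ).map (algebraMap S (Localization.AtPrime Q)) := by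
  have hmQ : ∀ x : S, x ∉ Q ↔ τ x ∉ q := fun x => by rw [hQq]; exact Iff.rfl
  apply le_antisymm
  · intro y hy
    obtain ⟨⟨x, u⟩, hxu⟩ := IsLocalization.surj Q.primeCompl y
    rw [RingHom.mem_ker] at hy
    have h1 : algebraMap D (Localization.AtPrime q) (τ x) = 0 := by
      have h2 := congrArg (Localization.localRingHom Q q (τ : S →+* D) hQq) hxu
      rw [map_mul, hy, zero_mul, Localization.localRingHom_to_map] at h2
      exact h2.symm
    obtain ⟨v, hv⟩ := (IsLocalization.map_eq_zero_iff q.primeCompl _ _).mp h1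
    have h2 : algebraMap D S v * x ∈ RingHom.ker τ := by
      rw [RingHom.mem_ker, map_mul, AlgHom.commutes]
      exact hv
    have h3 := Ideal.mem_map_of_mem (algebraMap S (Localization.AtPrime Q)) h2
    rw [map_mul] at h3
    have hvQ : algebraMap D S v ∈ Q.primeCompl := by
      refine (hmQ _).mpr ?_
      rw [AlgHom.commutes]
      exact v.2
    have h4 := (Ideal.unit_mul_mem_iff_mem _
      (IsLocalization.map_units (Localization.AtPrime Q) (⟨_, hvQ⟩ : Q.primeCompl))).mp h3
    rw [← hxu] at h4
    exact (Ideal.mul_unit_mem_iff_mem _ (IsLocalization.map_units _ u)).mp h4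
  · rw [Ideal.map_le_iff_le_comap]
    intro x hx
    rw [Ideal.mem_comap, RingHom.mem_ker, Localization.localRingHom_to_map]
    have : τ x = 0 := hx
    change algebraMap D _ (τ x) = 0
    rw [this, map_zero]

/-- The local homomorphism of a surjection is surjective. -/
theorem surjective_localRingHom (τ : S →ₐ[D] D) (q : Ideal D) [hq : q.IsPrime] (Q : Ideal S)
    [hQ : Q.IsPrime] (hQq : Q = q.comap (τ : S →+* D)) :
    Function.Surjective (Localization.localRingHom Q q (τ : S →+* D) hQq) := by
  intro z
  have hmQ : ∀ x : S, x ∉ Q ↔ τ x ∉ q := fun x => by rw [hQq]; exact Iff.rfl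
  obtain ⟨⟨x, u⟩, hxu⟩ := IsLocalization.surj q.primeCompl z
  have hvQ : algebraMap D S u ∈ Q.primeCompl := by
    refine (hmQ _).mpr ?_
    rw [AlgHom.commutes]
    exact u.2
  have hu : IsUnit (algebraMap S (Localization.AtPrime Q) (algebraMap D S u)) :=
    IsLocalization.map_units (Localization.AtPrime Q) (⟨_, hvQ⟩ : Q.primeCompl)
  obtain ⟨v, hv⟩ := hu
  refine ⟨algebraMap S _ (algebraMap D S x) * ↑(v⁻¹), ?_⟩
  have h1 : Localization.localRingHom Q q (τ : S →+* D) hQq (v : Localization.AtPrime Q) =
      algebraMap D _ (u : D) := by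
    rw [hv, Localization.localRingHom_to_map]
    change algebraMap D _ (τ (algebraMap D S u)) = _
    rw [AlgHom.commutes]
    rfl
  have h2 : Localization.localRingHom Q q (τ : S →+* D) hQq (algebraMap S _ (algebraMap D S x)) =
      algebraMap D _ (x : D) := by
    rw [Localization.localRingHom_to_map]
    change algebraMap D _ (τ (algebraMap D S x)) = _
    rw [AlgHom.commutes]
    rfl
  have h3 : IsUnit (algebraMap D (Localization.AtPrime q) (u : D)) := IsLocalization.map_units _ u
  apply h3.mul_right_cancel
  rw [hxu, ← h1, ← map_mul, mul_assoc, Units.inv_mul, mul_one, h2]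

end Sec

section Leaf

variable {B₁ T₁ O₁ : Type u} [CommRing B₁] [CommRing T₁] [CommRing O₁] [Algebra B₁ T₁] [Algebra B₁ O₁]

/-- Regularity descends from `O₁ ⧸ (σ f)` at `q` to `T₁ ⧸ (f)` at `σ⁻¹ q` if the relations of `σ f` are generated by
the images of relations of `f`. -/
theorem leaf [Algebra.Smooth B₁ T₁] [Module.Flat B₁ O₁] [IsNoetherianRing O₁] [IsNoetherianRing T₁]
    (σ : T₁ →ₐ[B₁] O₁) {m k : Type} [Fintype m] [Fintype k]
    (f : m → T₁) (s : k → m → T₁) (hs : Rel f s) (hex : Ex (fun i => σ (f i)) (fun l i => σ (s l i)))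
    (q : Ideal O₁) [q.IsPrime] (p : Ideal T₁) [p.IsPrime] (hp : p = q.comap (σ : T₁ →+* O₁))
    (hreg : IsRegularLocalRing (Localization.AtPrime q ⧸ Ideal.span
      (Set.range fun i => algebraMap O₁ (Localization.AtPrime q) (σ (f i))))) :
    IsRegularLocalRing (Localization.AtPrime p ⧸ Ideal.span
      (Set.range fun i => algebraMap T₁ (Localization.AtPrime p) (f i))) := by
  let S := O₁ ⊗[B₁] T₁
  have hS : IsNoetherianRing S := Algebra.FiniteType.isNoetherianRing O₁ S
  let τ : S →ₐ[O₁] O₁ := Algebra.TensorProduct.lift (AlgHom.id O₁ O₁) σ fun x y => Commute.all _ _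
  let ι : T₁ →+* S := (Algebra.TensorProduct.includeRight : T₁ →ₐ[B₁] O₁ ⊗[B₁] T₁).toRingHom
  have hτι : ∀ x, τ (ι x) = σ x := fun x => by
    change Algebra.TensorProduct.lift (AlgHom.id O₁ O₁) σ (fun x y => Commute.all _ _) (1 ⊗ₜ[B₁] x) = _
    rw [Algebra.TensorProduct.lift_tmul]
    simp
  have hι : ι.Flat := by
    have h1 : (algebraMap T₁ (T₁ ⊗[B₁] O₁)).Flat := RingHom.flat_algebraMap_iff.mpr inferInstance
    have h2 : ι = (Algebra.TensorProduct.comm B₁ T₁ O₁).toRingEquiv.toRingHom.comp
        (algebraMap T₁ (T₁ ⊗[B₁] O₁)) := by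
      ext x
      change (1 : O₁) ⊗ₜ[B₁] x = Algebra.TensorProduct.comm B₁ T₁ O₁ (algebraMap T₁ (T₁ ⊗[B₁] O₁) x)
      rw [Algebra.TensorProduct.algebraMap_apply, Algebra.TensorProduct.comm_tmul]
      rfl
    rw [h2]
    exact h1.comp (RingHom.Flat.of_bijective (Algebra.TensorProduct.comm B₁ T₁ O₁).toRingEquiv.bijective)
  let Q : Ideal S := q.comap (τ : S →+* O₁)
  have hQ : Q.IsPrime := Ideal.comap_isPrime _ q
  have hpQ : p = Q.comap ι := by
    rw [hp]
    ext x
    change σ x ∈ q ↔ τ (ι x) ∈ q
    rw [hτι]
  let A := Localization.AtPrime Q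
  let C := Localization.AtPrime q
  let π : A →+* C := Localization.localRingHom Q q (τ : S →+* O₁) rfl
  have hπ : Function.Surjective π := surjective_localRingHom τ q Q rfl
  have hA : IsNoetherianRing A := IsLocalization.isNoetherianRing Q.primeCompl A hS
  obtain ⟨ws, hws, hker⟩ := exists_list τ q Q rfl
  have hkerπ : RingHom.ker π = Ideal.ofList ws := (ker_localRingHom τ q Q rfl).trans hker
  have hmem : ∀ w ∈ ws, w ∈ maximalIdeal A := by
    have h1 : RingHom.ker π ≤ maximalIdeal A := IsLocalRing.le_maximalIdeal (RingHom.ker_ne_top π)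
    intro w hw
    refine h1 ?_
    rw [hkerπ]
    exact Ideal.subset_span hw
  have hπι : ∀ x : T₁, π (algebraMap S A (ι x)) = algebraMap O₁ C (σ x) := by
    intro x
    rw [← hτι]
    exact Localization.localRingHom_to_map Q q (τ : S →+* O₁) rfl (ι x)
  -- the relations in `C`
  have hexC : Ex (fun i => π (algebraMap S A (ι (f i)))) (fun l i => π (algebraMap S A (ι (s l i)))) := by
    simp only [hπι]
    exact hex.localization q.primeCompl C
  obtain ⟨-, hregA⟩ := regular_of_list ws.length A ws rfl hmem hws π hπ hkerπ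
    (fun i => algebraMap S A (ι (f i))) (fun l i => algebraMap S A (ι (s l i)))
    ((hs.map ι).map (algebraMap S A)) hexC (by
      have h1 : (fun i => π (algebraMap S A (ι (f i)))) = fun i => algebraMap O₁ C (σ (f i)) :=
        funext fun i => hπι _
      rw [h1]
      exact hreg)
  -- flat descent
  let T := Localization.AtPrime p
  have hT : IsNoetherianRing T := IsLocalization.isNoetherianRing p.primeCompl T inferInstance
  let lam : T →+* A := Localization.localRingHom p Q ι hpQ
  have hlam : lam.Flat := hι.localRingHom Q p hpQ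
  have hloc : IsLocalHom lam := Localization.isLocalHom_localRingHom p Q ι hpQ
  let _ : Algebra T A := lam.toAlgebra
  have : Module.Flat T A := hlam
  have : IsLocalHom (algebraMap T A) := hloc
  refine regular_quot_of_flat (A := A) _ ?_
  have h2 : (Ideal.span (Set.range fun i => algebraMap T₁ T (f i))).map (algebraMap T A) =
      Ideal.span (Set.range fun i => algebraMap S A (ι (f i))) := by
    rw [Ideal.map_span, ← Set.range_comp]
    congr 2
    funext i
    exact Localization.localRingHom_to_map p Q ι hpQ (f i)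
  rw [h2]
  exact hregA

end Leaf

end K119.SecReg
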