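import Groth.Agent.EtDl.K119.CertStage
import Groth.Agent.Etdl.H428.SmLim

/-!
# Spreading out of certificates along regular homomorphisms

* `spread` : let `B → O` be a regular homomorphism of Noetherian rings, `B` J-2, `U` open in `Spec B` and `V₀` an open
  subset of `Spec O` over `U`. If `Spec O` has a certificate for `V₀`, then there are a smooth quasi-compact
  `S₁ ⟶ Spec B`, a morphism `t : Spec O ⟶ S₁` over `Spec B` and an open `V₁` of `S₁` over `U` with `t⁻¹ V₁ = V₀`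
  such that `S₁` has a certificate for `V₁`.
-/

set_option autoImplicit false
universe u

open CategoryTheory CategoryTheory.Limits AlgebraicGeometry Opposite

namespace K119.Spread

open K556.CertDef K119.StageEv K119.CertStage
open Groth.Agent.Proet.FacM Groth.Agent.Proet.FacInd Groth.Agent.Sga4h Groth.Agent.Etdl.H428.SmLim

/-- Popescu: the spectrum of a regular homomorphism is a directed limit of smooth affine schemes. -/
theorem exists_limit {A B : Type u} [CommRing A] [CommRing B] [Algebra A B] [IsNoetherianRing A]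
    [IsNoetherianRing B] (h : CAlg.IsRegularHom A B) :
    ∃ (ι : Type u) (_ : PartialOrder ι) (_ : IsDirected ι (· ≤ ·)) (_ : Nonempty ι)
      (D : ιᵒᵖ ⥤ Over (Spec (CommRingCat.of A)))
      (π : (Functor.const ιᵒᵖ).obj (Spec (CommRingCat.of B)) ⟶ D ⋙ Over.forget (Spec (CommRingCat.of A)))
      (_ : IsLimit (Cone.mk (Spec (CommRingCat.of B)) π)), (∀ i, Smooth (D.obj i).hom) ∧
        (∀ i, IsAffine (D.obj i).left) ∧
        ∀ i, π.app i ≫ (D.obj i).hom = Spec.map (CommRingCat.ofHom (algebraMap A B)) := by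
  have hind : IsInd A (Sm A) B := by
    refine Fac.isInd good_sm ?_
    intro Z _ _ hZ g
    obtain ⟨B, _, _, hB, a, b, hab⟩ := indSmooth_of_isRegularHom h Z hZ g
    exact ⟨B, inferInstance, inferInstance, a, b, hB, hab⟩
  obtain ⟨J, _, _, F, c, hc, hF, ⟨e⟩⟩ := hind
  obtain ⟨ι, _, _, _, G, _⟩ := IsFiltered.exists_directed J
  have hc' : IsColimit (c.whisker G) := (Functor.Final.isColimitWhiskerEquiv G c).symm hc
  let j := 𝟙 (Spec (CommRingCat.of A))
  let e' : Spec (CommRingCat.of B) ≅ (EtLim.cone (G ⋙ F) j (c.whisker G)).pt :=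
    Scheme.Spec.mapIso ((Under.forget _).mapIso e).op
  refine ⟨ι, inferInstance, inferInstance, inferInstance, EtLim.diag (G ⋙ F) j,
    ((EtLim.cone (G ⋙ F) j (c.whisker G)).extend e'.hom).π,
    IsLimit.ofIsoLimit (EtLim.isLimitCone (G ⋙ F) j hc') (Cone.ext e' (fun _ => rfl)).symm, ?_, ?_, ?_⟩
  · intro i
    have h1 : Smooth (Spec.map ((G ⋙ F).obj i.unop).hom) := by
      rw [HasRingHomProperty.Spec_iff (P := @Smooth)]
      exact hF _
    change Smooth (Spec.map ((G ⋙ F).obj i.unop).hom ≫ j)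
    infer_instance
  · intro i
    change IsAffine (Spec ((G ⋙ F).obj i.unop).right)
    infer_instance
  · intro i
    change (Spec.map e.hom.right ≫ Spec.map (c.ι.app (G.obj i.unop)).right) ≫
      Spec.map (F.obj (G.obj i.unop)).hom ≫ 𝟙 _ = _
    rw [Category.comp_id, Category.assoc, ← Spec.map_comp, ← Spec.map_comp]
    congr 1
    have h1 := Under.w (c.ι.app (G.obj i.unop))
    have h2 := Under.w e.hom
    rw [h1]
    exact h2

/-- Spreading out of certificates. -/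
theorem spread {B O : Type u} [CommRing B] [CommRing O] [Algebra B O] [IsNoetherianRing B] [IsNoetherianRing O]
    (hJ : EGA4.IsJ2 B) (hreg : CAlg.IsRegularHom B O) (U : (Spec (CommRingCat.of B)).Opens)
    (V0 : (Spec (CommRingCat.of O)).Opens)
    (hV : V0 ≤ (Spec.map (CommRingCat.ofHom (algebraMap B O))) ⁻¹ᵁ U)
    (hcert : Cert (Spec (CommRingCat.of O)) V0) :
    ∃ (S1 : Scheme.{u}) (p : S1 ⟶ Spec (CommRingCat.of B)) (t : Spec (CommRingCat.of O) ⟶ S1) (V1 : S1.Opens),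
      Smooth p ∧ QuasiCompact p ∧ t ≫ p = Spec.map (CommRingCat.ofHom (algebraMap B O)) ∧ V1 ≤ p ⁻¹ᵁ U ∧
        t ⁻¹ᵁ V1 = V0 ∧ Cert S1 V1 := by
  obtain ⟨ι, _, _, _, D', π, hc, hsm, haff, hπ⟩ := exists_limit hreg
  let D : ιᵒᵖ ⥤ Scheme.{u} := D' ⋙ Over.forget (Spec (CommRingCat.of B))
  let c : Cone D := Cone.mk (Spec (CommRingCat.of O)) π
  let β : ∀ i, D.obj i ⟶ Spec (CommRingCat.of B) := fun i => (D'.obj i).hom
  have hβ : ∀ {i j : ιᵒᵖ} (φ : i ⟶ j), D.map φ ≫ β j = β i := fun φ => Over.w (D'.map φ)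
  have hcβ : ∀ i, c.π.app i ≫ β i = Spec.map (CommRingCat.ofHom (algebraMap B O)) := hπ
  have hA : ∀ i, IsAffine (D.obj i) := haff
  have hS : ∀ i, Smooth (β i) := hsm
  have hT : ∀ (i j : ιᵒᵖ) (f : i ⟶ j), IsAffineHom (D.map f) := fun i j f => inferInstance
  have hN : ∀ i, IsNoetherian (D.obj i) := fun i => noeth_of_lfp (β i)
  have hcA : IsAffine c.pt := inferInstanceAs (IsAffine (Spec (CommRingCat.of O)))
  have hcN : IsNoetherian c.pt := inferInstanceAs (IsNoetherian (Spec (CommRingCat.of O)))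
  have hfl0 : Flat (Spec.map (CommRingCat.ofHom (algebraMap B O))) := by
    rw [HasRingHomProperty.Spec_iff (P := @Flat)]
    exact RingHom.flat_algebraMap_iff.mpr hreg.1
  have hfl : ∀ i, Flat (c.π.app i ≫ β i) := fun i => by
    rw [hcβ]; exact hfl0
  -- the open subset
  obtain ⟨i₀, V₀, -, hV₀⟩ := exists_preimage_eq D c hc (V0 : c.pt.Opens)
    (TopologicalSpace.NoetherianSpace.isCompact _)
  let V₀' : (D.obj i₀).Opens := V₀ ⊓ β i₀ ⁻¹ᵁ U
  have hV₀' : c.π.app i₀ ⁻¹ᵁ V₀' = V0 := by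
    change c.π.app i₀ ⁻¹ᵁ V₀ ⊓ c.π.app i₀ ⁻¹ᵁ (β i₀ ⁻¹ᵁ U) = V0
    rw [hV₀, ← Scheme.Hom.comp_preimage, hcβ]
    exact inf_eq_left.mpr hV
  have hX : IsPullback (c.π.app i₀) (𝟙 c.pt) (𝟙 (D.obj i₀)) (c.π.app i₀) := IsPullback.id_vert _
  have hcl : Concl D c (𝟙 (D.obj i₀)) (c.π.app i₀) (𝟙 c.pt) V₀' :=
    claim_of_cert (c := c) hc hJ β hfl (X := Spec (CommRingCat.of O)) (V := V0) hcert i₀ (D.obj i₀) (𝟙 _)
      inferInstance inferInstance inferInstance (c.π.app i₀) (𝟙 c.pt) hX V₀' hV₀'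
  obtain ⟨i₁, φ₁, X₁, r, p₁, a₁, k1, ha, hb, G, hG1, hG2⟩ := Ev.exists_stage hX hcl
  have hp₁ : IsIso p₁ := by
    have : IsIso (𝟙 (D.obj i₀)) := inferInstance
    exact MorphismProperty.of_isPullback (P := MorphismProperty.isomorphisms Scheme.{u}) k1 this
  have hrg : Set.range a₁ ⊆ Set.range G.ι := by
    rintro _ ⟨x, rfl⟩
    rw [Scheme.Opens.range_ι]
    exact hG1 x
  let t : Spec (CommRingCat.of O) ⟶ (G : Scheme.{u}) := IsOpenImmersion.lift G.ι a₁ hrg
  have ht : t ≫ G.ι = a₁ := IsOpenImmersion.lift_fac G.ι a₁ hrg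
  have hNX : IsNoetherian X₁ := by
    have : LocallyOfFiniteType p₁ := inferInstance
    exact noeth_of_lfp p₁
  have hGns : TopologicalSpace.NoetherianSpace (G : Scheme.{u}) := G.ι.isOpenEmbedding.isInducing.noetherianSpace
  refine ⟨G, G.ι ≫ p₁ ≫ β i₁, t, G.ι ⁻¹ᵁ r ⁻¹ᵁ V₀', ?_, inferInstance, ?_, ?_, ?_, hG2⟩
  · have : Smooth p₁ := inferInstance
    infer_instance
  · rw [← Category.assoc, ht, ← Category.assoc, hb, Category.assoc]
    erw [Category.id_comp]
    exact hcβ i₁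
  · have h1 : r ≫ β i₀ = p₁ ≫ β i₁ := by
      have h2 := k1.w
      rw [Category.comp_id] at h2
      rw [h2, Category.assoc, hβ]
    rw [Scheme.Hom.comp_preimage, ← h1, Scheme.Hom.comp_preimage]
    exact Scheme.Hom.preimage_mono _ (Scheme.Hom.preimage_mono _ inf_le_right)
  · rw [← Scheme.Hom.comp_preimage, ht, ← Scheme.Hom.comp_preimage, ha, hV₀']

end K119.Spread
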